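import Groth.Agent.CAlg.K80.PowSerCot
import Groth.Agent.Fitt.K360.Basic
import Groth.Agent.S6889
import Groth.Agent.CalgB.Minors
import Mathlib.RingTheory.MvPowerSeries.Derivative

/-!
# Continuous differentials of a quotient of a power series ring

For a surjection `φ : k⟦x_1, …, x_n⟧ → B` onto a Noetherian local ring, `Om φ` is the quotient of `B^n` by the
gradients of the elements of the kernel.

* `equiv`: `Om φ` does not depend on the presentation.
* `fitt_eq`: its Fitting ideals are the Jacobian ideals.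
-/

set_option autoImplicit false

universe u

namespace Groth.Agent.Curves.K316.ContDiff

open IsLocalRing MvPowerSeries

section Ext

variable {k : Type u} [Field k] {B : Type u} [CommRing B] [IsLocalRing B] [Algebra k B] {n : ℕ}
  (φ : MvPowerSeries (Fin n) k →ₐ[k] B) {M : Type u} [AddCommGroup M] [Module B M]

theorem approx (N : ℕ) : ∀ g : MvPowerSeries (Fin n) k, ∃ p : MvPolynomial (Fin n) k,
    g - (p : MvPowerSeries (Fin n) k) ∈ maximalIdeal (MvPowerSeries (Fin n) k) ^ N := by
  induction N with
  | zero => intro g; exact ⟨0, by simp⟩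
  | succ N ih =>
    intro g
    have h1 : g - C (constantCoeff g) ∈ maximalIdeal (MvPowerSeries (Fin n) k) := by
      rw [K80.PowSerCot.mem_maximalIdeal_mvPowerSeries]
      simp
    rw [K80.PowSerCot.maximalIdeal_mvPowerSeries] at h1
    obtain ⟨c, hc⟩ := Ideal.mem_span_range_iff_exists_fun.mp h1
    choose p hp using fun i => ih (c i)
    refine ⟨MvPolynomial.C (constantCoeff g) + ∑ i, p i * MvPolynomial.X i, ?_⟩
    have h2 : g - ((MvPolynomial.C (constantCoeff g) + ∑ i, p i * MvPolynomial.X i :
        MvPolynomial (Fin n) k) : MvPowerSeries (Fin n) k) = ∑ i, (c i - (p i : MvPowerSeries (Fin n) k)) * X i := by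
      have h3 : ((∑ i, p i * MvPolynomial.X i : MvPolynomial (Fin n) k) :
          MvPowerSeries (Fin n) k) = ∑ i, (p i : MvPowerSeries (Fin n) k) * X i := by
        rw [← MvPolynomial.coeToMvPowerSeries.ringHom_apply, map_sum]
        simp
      rw [MvPolynomial.coe_add, MvPolynomial.coe_C, h3]
      simp only [sub_mul, Finset.sum_sub_distrib]
      rw [hc]
      ring
    rw [h2, pow_succ]
    refine Ideal.sum_mem _ fun i _ => Ideal.mul_mem_mul (hp i) ?_
    rw [K80.PowSerCot.mem_maximalIdeal_mvPowerSeries]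
    simp

variable (D : MvPowerSeries (Fin n) k →+ M)
  (hmul : ∀ g h, D (g * h) = φ g • D h + φ h • D g) (hC : ∀ a, D (C a) = 0)

include hmul hC in
omit [IsLocalRing B] in
theorem eq_zero_of_poly (hX : ∀ i, D (X i) = 0) (p : MvPolynomial (Fin n) k) :
    D (p : MvPowerSeries (Fin n) k) = 0 := by
  induction p using MvPolynomial.induction_on with
  | C a => rw [MvPolynomial.coe_C]; exact hC a
  | add p q hp hq => rw [MvPolynomial.coe_add, map_add, hp, hq, add_zero]
  | mul_X p i hp => rw [MvPolynomial.coe_mul, MvPolynomial.coe_X, hmul, hp, hX]; simp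

include hmul in
theorem mem_pow_smul (hφ : ∀ g ∈ maximalIdeal (MvPowerSeries (Fin n) k), φ g ∈ maximalIdeal B)
    (N : ℕ) : ∀ g ∈ maximalIdeal (MvPowerSeries (Fin n) k) ^ (N + 1),
      D g ∈ maximalIdeal B ^ N • (⊤ : Submodule B M) := by
  induction N with
  | zero => intro g _; simp
  | succ N ih =>
    intro g hg
    rw [pow_succ'] at hg
    refine Submodule.mul_induction_on hg (fun a ha b hb => ?_) (fun a b ha hb => ?_)
    · rw [hmul]
      refine add_mem ?_ ?_
      · have h1 := Submodule.smul_mem_smul (hφ a ha) (ih b hb)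
        rwa [← Submodule.mul_smul, ← pow_succ'] at h1
      · refine Submodule.smul_mem_smul ?_ trivial
        have h2 : (maximalIdeal (MvPowerSeries (Fin n) k)).map φ ≤ maximalIdeal B := by
          rw [Ideal.map_le_iff_le_comap]; exact fun x hx => hφ x hx
        have h3 := Ideal.mem_map_of_mem φ hb
        rw [Ideal.map_pow] at h3
        exact Ideal.pow_right_mono h2 _ h3
    · rw [map_add]; exact add_mem ha hb

include hmul hC in
/-- A derivation of a power series ring into a finite module over a Noetherian local ring is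
determined by its values on the variables. -/
theorem eq_zero [IsNoetherianRing B] [Module.Finite B M]
    (hφ : ∀ g ∈ maximalIdeal (MvPowerSeries (Fin n) k), φ g ∈ maximalIdeal B)
    (hX : ∀ i, D (X i) = 0) (g : MvPowerSeries (Fin n) k) : D g = 0 := by
  have h1 : D g ∈ (⨅ N : ℕ, maximalIdeal B ^ N • (⊤ : Submodule B M)) := by
    rw [Submodule.mem_iInf]
    intro N
    obtain ⟨p, hp⟩ := approx (N + 1) g
    have h2 := mem_pow_smul φ D hmul hφ N _ hp
    rwa [map_sub, eq_zero_of_poly φ D hmul hC hX, sub_zero] at h2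
  rw [Ideal.iInf_pow_smul_eq_bot_of_isLocalRing _ (maximalIdeal.isMaximal B).ne_top] at h1
  exact (Submodule.mem_bot _).mp h1

end Ext

section Om

variable {k : Type u} [Field k] {B : Type u} [CommRing B] [Algebra k B] {n : ℕ}
  (φ : MvPowerSeries (Fin n) k →ₐ[k] B)

/-- The gradient of a power series, with values in `B`. -/
noncomputable def gr : MvPowerSeries (Fin n) k →+ (Fin n → B) where
  toFun g := fun i => φ (pderiv k i g)
  map_zero' := by funext i; simp
  map_add' g h := by funext i; simp

theorem gr_apply (g : MvPowerSeries (Fin n) k) (i : Fin n) : gr φ g i = φ (pderiv k i g) := rfl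

theorem gr_mul (g h : MvPowerSeries (Fin n) k) : gr φ (g * h) = φ g • gr φ h + φ h • gr φ g := by
  funext i
  simp only [gr_apply, Derivation.leibniz, map_add, Pi.add_apply, Pi.smul_apply, smul_eq_mul,
    map_mul]

theorem gr_C (a : k) : gr φ (C a) = 0 := by
  funext i
  simp [gr_apply]

theorem gr_X (i : Fin n) : gr φ (X i) = Pi.single i 1 := by
  classical
  funext j
  rw [gr_apply, pderiv_X]
  by_cases h : i = j
  · subst h; simp
  · rw [Pi.single_eq_of_ne (Ne.symm h), Pi.single_eq_of_ne h, map_zero]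

/-- The submodule of relations. -/
def relSub : Submodule B (Fin n → B) := Submodule.span B {v | ∃ g, φ g = 0 ∧ v = gr φ g}

/-- The module of continuous differentials. -/
abbrev Om : Type u := (Fin n → B) ⧸ relSub φ

/-- The class of the gradient. -/
noncomputable def dg : MvPowerSeries (Fin n) k →+ Om φ :=
  (relSub φ).mkQ.toAddMonoidHom.comp (gr φ)

theorem dg_apply (g : MvPowerSeries (Fin n) k) : dg φ g = (relSub φ).mkQ (gr φ g) := rfl

theorem dg_eq_zero {g : MvPowerSeries (Fin n) k} (h : φ g = 0) : dg φ g = 0 := by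
  rw [dg_apply, Submodule.mkQ_apply, Submodule.Quotient.mk_eq_zero]
  exact Submodule.subset_span ⟨g, h, rfl⟩

theorem dg_congr {g h : MvPowerSeries (Fin n) k} (e : φ g = φ h) : dg φ g = dg φ h := by
  rw [← sub_eq_zero, ← map_sub]
  exact dg_eq_zero φ (by rw [map_sub, e, sub_self])

theorem dg_mul (g h : MvPowerSeries (Fin n) k) : dg φ (g * h) = φ g • dg φ h + φ h • dg φ g := by
  rw [dg_apply, gr_mul, map_add, map_smul, map_smul]
  rfl

theorem dg_C (a : k) : dg φ (C a) = 0 := by
  rw [dg_apply, gr_C, map_zero]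

variable (hφ : Function.Surjective φ)

/-- The universal continuous derivation. -/
noncomputable def dd : B →+ Om φ where
  toFun b := dg φ (Function.surjInv hφ b)
  map_zero' := dg_eq_zero φ (Function.surjInv_eq hφ 0)
  map_add' a b := by
    rw [← map_add]
    apply dg_congr
    rw [map_add, Function.surjInv_eq hφ, Function.surjInv_eq hφ, Function.surjInv_eq hφ]

theorem dd_apply (g : MvPowerSeries (Fin n) k) : dd φ hφ (φ g) = dg φ g :=
  dg_congr φ (Function.surjInv_eq hφ _)

theorem dd_mul (a b : B) : dd φ hφ (a * b) = a • dd φ hφ b + b • dd φ hφ a := by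
  obtain ⟨g, rfl⟩ := hφ a
  obtain ⟨h, rfl⟩ := hφ b
  rw [← map_mul, dd_apply, dd_apply, dd_apply, dg_mul]

theorem dd_algebraMap (a : k) : dd φ hφ (algebraMap k B a) = 0 := by
  have h1 : algebraMap k B a = φ (C a) := by
    rw [← φ.commutes]; rfl
  rw [h1, dd_apply, dg_C]

end Om

section Equiv

variable {k : Type u} [Field k] {B : Type u} [CommRing B] [IsLocalRing B] [IsNoetherianRing B]
  [Algebra k B] {n m : ℕ}
  (φ : MvPowerSeries (Fin n) k →ₐ[k] B) (hφ : Function.Surjective φ)
  (ψ : MvPowerSeries (Fin m) k →ₐ[k] B) (hψ : Function.Surjective ψ)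

include hφ in
omit [IsNoetherianRing B] in
theorem mem_of_surjective (g : MvPowerSeries (Fin n) k)
    (hg : g ∈ maximalIdeal (MvPowerSeries (Fin n) k)) : φ g ∈ maximalIdeal B := by
  rw [mem_maximalIdeal, mem_nonunits_iff]
  intro h
  obtain ⟨b, hb⟩ := h.exists_right_inv
  obtain ⟨h, rfl⟩ := hφ b
  have h1 : IsUnit (1 - g * h) := by
    rw [MvPowerSeries.isUnit_iff_constantCoeff, map_sub, map_mul, map_one,
      (K80.PowSerCot.mem_maximalIdeal_mvPowerSeries g).1 hg, zero_mul, sub_zero]
    exact isUnit_one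
  have h2 := h1.map φ
  rw [map_sub, map_mul, map_one, hb, sub_self] at h2
  exact not_isUnit_zero h2

include hφ in
/-- The chain rule. -/
theorem chain (g : MvPowerSeries (Fin n) k) :
    dd ψ hψ (φ g) = ∑ i, φ (pderiv k i g) • dd ψ hψ (φ (X i)) := by
  let D : MvPowerSeries (Fin n) k →+ Om ψ :=
    { toFun := fun g => dd ψ hψ (φ g) - ∑ i, φ (pderiv k i g) • dd ψ hψ (φ (X i))
      map_zero' := by simp
      map_add' := fun g h => by
        simp only [map_add, add_smul, Finset.sum_add_distrib]
        abel }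
  have hD : ∀ g, D g = dd ψ hψ (φ g) - ∑ i, φ (pderiv k i g) • dd ψ hψ (φ (X i)) := fun _ => rfl
  have h1 := eq_zero φ D (fun g h => by
      simp only [hD, map_mul, dd_mul, Derivation.leibniz, smul_eq_mul, map_add, add_smul,
        Finset.sum_add_distrib, smul_sub, Finset.smul_sum, mul_smul]
      abel) (fun a => by
      rw [hD]
      have h2 : φ (C a) = algebraMap k B a := φ.commutes a
      rw [h2, dd_algebraMap]
      simp) (mem_of_surjective φ hφ) (fun i => by
      classical
      rw [hD, sub_eq_zero, Finset.sum_eq_single i]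
      · rw [pderiv_X_self, map_one, one_smul]
      · intro j _ hj
        rw [pderiv_X_of_ne hj.symm, map_zero, zero_smul]
      · simp) g
  rw [hD, sub_eq_zero] at h1
  exact h1

/-- The comparison map. -/
noncomputable def comp : Om φ →ₗ[B] Om ψ :=
  (relSub φ).liftQ (Fintype.linearCombination B fun i => dd ψ hψ (φ (X i))) (by
    rw [relSub, Submodule.span_le]
    rintro _ ⟨g, hg, rfl⟩
    rw [SetLike.mem_coe, LinearMap.mem_ker, Fintype.linearCombination_apply]
    have h1 := chain φ hφ ψ hψ g
    rw [hg, map_zero] at h1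
    exact h1.symm)

theorem comp_dd (b : B) : comp φ hφ ψ hψ (dd φ hφ b) = dd ψ hψ b := by
  obtain ⟨g, rfl⟩ := hφ b
  rw [dd_apply, dg_apply, comp, Submodule.mkQ_apply, Submodule.liftQ_apply,
    Fintype.linearCombination_apply]
  exact (chain φ hφ ψ hψ g).symm

omit [IsLocalRing B] [IsNoetherianRing B] in
theorem ext_dd {M : Type u} [AddCommGroup M] [Module B M] {f g : Om φ →ₗ[B] M}
    (h : ∀ b, f (dd φ hφ b) = g (dd φ hφ b)) : f = g := by
  apply Submodule.linearMap_qext
  apply LinearMap.pi_ext'
  intro i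
  ext
  have h1 := h (φ (X i))
  rw [dd_apply, dg_apply, gr_X] at h1
  exact h1

/-- The module of continuous differentials does not depend on the presentation. -/
noncomputable def equiv : Om φ ≃ₗ[B] Om ψ :=
  LinearEquiv.ofLinearMap (comp φ hφ ψ hψ) (comp ψ hψ φ hφ)
    (ext_dd ψ hψ fun b => by
      rw [LinearMap.comp_apply, comp_dd, comp_dd, LinearMap.id_apply])
    (ext_dd φ hφ fun b => by
      rw [LinearMap.comp_apply, comp_dd, comp_dd, LinearMap.id_apply])

end Equiv

section Fitting

open CAlgX Groth.Agent.CalgB.Minors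

variable {k : Type u} [Field k] {B : Type u} [CommRing B] [Algebra k B] {n l : ℕ}
  (φ : MvPowerSeries (Fin n) k →ₐ[k] B)

theorem relSub_eq (f : Fin l → MvPowerSeries (Fin n) k)
    (hf : ∀ g, φ g = 0 ↔ g ∈ Ideal.span (Set.range f)) :
    relSub φ = Submodule.span B (Set.range fun s => gr φ (f s)) := by
  apply le_antisymm
  · rw [relSub, Submodule.span_le]
    rintro _ ⟨g, hg, rfl⟩
    rw [hf] at hg
    obtain ⟨c, hc⟩ := Ideal.mem_span_range_iff_exists_fun.mp hg
    rw [← hc, map_sum]
    refine Submodule.sum_mem _ fun s _ => ?_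
    have h1 : φ (f s) = 0 := (hf _).2 (Ideal.subset_span ⟨s, rfl⟩)
    rw [gr_mul, h1, zero_smul, add_zero]
    exact Submodule.smul_mem _ _ (Submodule.subset_span ⟨s, rfl⟩)
  · rw [Submodule.span_le]
    rintro _ ⟨s, rfl⟩
    exact Submodule.subset_span ⟨f s, (hf _).2 (Ideal.subset_span ⟨s, rfl⟩), rfl⟩

/-- The images of the basis vectors. -/
noncomputable def gen (i : Fin n) : Om φ := (relSub φ).mkQ (Pi.single i 1)

theorem sum_gen (c : Fin n → B) : ∑ i, c i • gen φ i = (relSub φ).mkQ c := by
  classical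
  simp only [gen, ← map_smul, ← map_sum]
  congr 1
  funext j
  simp [Finset.sum_apply, Pi.single_apply]

theorem span_gen : Submodule.span B (Set.range (gen φ)) = ⊤ := by
  rw [eq_top_iff]
  intro z _
  obtain ⟨c, rfl⟩ := (relSub φ).mkQ_surjective z
  rw [← sum_gen]
  exact Submodule.sum_mem _ fun i _ => Submodule.smul_mem _ _ (Submodule.subset_span ⟨i, rfl⟩)

/-- The Fitting ideals of the continuous differentials are the Jacobian ideals. -/
theorem fitt_eq (r : ℕ) (f : Fin l → MvPowerSeries (Fin n) k)
    (hf : ∀ g, φ g = 0 ↔ g ∈ Ideal.span (Set.range f)) :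
    Fitt.ideal B (Om φ) r =
      (minorIdeal (Matrix.of fun (j : Fin l) (i : Fin n) => pderiv k i (f j)) (n - r)).map
        (φ : MvPowerSeries (Fin n) k →+* B) := by
  rw [Groth.Agent.S6889.result (gen φ) (span_gen φ) r, ← minorIdeal_map]
  apply le_antisymm
  · rw [Ideal.span_le]
    rintro _ ⟨z, e, hz, rfl⟩
    have h1 : ∀ j, ∃ c : Fin l → B, ∑ s, c s • gr φ (f s) = z j := by
      intro j
      have h2 := hz j
      rw [sum_gen, Submodule.mkQ_apply, Submodule.Quotient.mk_eq_zero, relSub_eq φ f hf] at h2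
      exact (Submodule.mem_span_range_iff_exists_fun B).mp h2
    choose c hc using h1
    have h3 : (Matrix.of fun a b => z b (e a)) =
        ((Matrix.of c * (Matrix.of fun (j : Fin l) (i : Fin n) => pderiv k i (f j)).map
          (φ : MvPowerSeries (Fin n) k →+* B)).submatrix id e).transpose := by
      ext a b
      rw [Matrix.transpose_apply, Matrix.submatrix_apply, Matrix.mul_apply, Matrix.of_apply, ← hc b,
        Finset.sum_apply]
      rfl
    rw [SetLike.mem_coe, h3, Matrix.det_transpose]
    exact minorIdeal_mul_le_right _ _ _ (det_mem_minorIdeal _ _ _)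
  · rw [minorIdeal_le_iff]
    intro ρ γ
    refine Ideal.subset_span ⟨fun b => gr φ (f (ρ b)), γ, fun j => ?_, ?_⟩
    · rw [sum_gen, Submodule.mkQ_apply, Submodule.Quotient.mk_eq_zero]
      exact Submodule.subset_span ⟨f (ρ j), (hf _).2 (Ideal.subset_span ⟨ρ j, rfl⟩), rfl⟩
    · rw [← Matrix.det_transpose]
      rfl

end Fitting

end Groth.Agent.Curves.K316.ContDiff
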