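import Groth.Agent.CurvesA.PtFun
import Groth.Agent.Sga4B.ConstLC
import Mathlib.AlgebraicGeometry.Morphisms.QuasiFinite
import Groth.Agent.Desc.LQF

/-!
# `i_{x*} ℤ` as a sheaf of functions on points

For a point `x` of `X` the direct image of the constant sheaf `ℤ` along `Spec κ(x) ⟶ X` is the sheaf of
integer valued functions on the points over `x`.
-/

set_option autoImplicit false
universe u

open CategoryTheory CategoryTheory.Limits AlgebraicGeometry Opposite

namespace K316.PtPush

open Groth.Agent.CurvesA.PtFun Groth.Agent.Sga4B.ConstLC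

variable {X : Scheme.{u}} (x : X)

instance discr (U : X.Etale) : DiscreteTopology ((EtCoh.bc (X.fromSpecResidueField x)).obj U).left := by
  have hq : LocallyQuasiFinite U.hom := Groth.Agent.Desc.LQF.of_etale U.hom
  have h1 : _root_.IsDiscrete (U.hom ⁻¹' {x}) := U.hom.isDiscrete_preimage_singleton x
  have h2 : DiscreteTopology (U.hom ⁻¹' {x}) := isDiscrete_iff_discreteTopology.1 h1
  exact (U.hom.fiberHomeo x).symm.discreteTopology

theorem fst_mem (U : X.Etale) (y : ((EtCoh.bc (X.fromSpecResidueField x)).obj U).left) :
    U.hom (pullback.fst U.hom (X.fromSpecResidueField x) y) ∈ ({x} : Set X) := by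
  have h1 : pullback.fst U.hom (X.fromSpecResidueField x) y ∈
      Set.range (U.hom.fiberι x) := ⟨y, rfl⟩
  rw [Scheme.Hom.range_fiberι] at h1
  exact h1

theorem fst_bijective (U : X.Etale) (v : Pts X {x} U) :
    ∃! y : ((EtCoh.bc (X.fromSpecResidueField x)).obj U).left,
      pullback.fst U.hom (X.fromSpecResidueField x) y = v.1 := by
  have h1 : v.1 ∈ Set.range (U.hom.fiberι x) := by
    rw [Scheme.Hom.range_fiberι]
    exact v.2
  obtain ⟨y, hy⟩ := h1
  exact ⟨y, hy, fun z hz => (U.hom.fiberι x).isEmbedding.injective (hz.trans hy.symm)⟩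

/-- From functions on points over `x` to the direct image of the locally constant functions. -/
noncomputable def fromPt : ptSheaf X {x} ⟶
    (EtCoh.push (X.fromSpecResidueField x)).obj (LC (Spec (X.residueField x)) (ULift.{u + 1} ℤ)) :=
  ⟨{ app := fun U => AddCommGrpCat.ofHom
      { toFun := fun a => (⟨fun y => ULift.up (a.down ⟨_, fst_mem x U.unop y⟩),
          IsLocallyConstant.of_discrete _⟩ :
          LocallyConstant ((EtCoh.bc (X.fromSpecResidueField x)).obj U.unop).left (ULift.{u + 1} ℤ))
        map_zero' := rfl
        map_add' := fun _ _ => rfl }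
     naturality := fun U V g => by
      ext a
      apply LocallyConstant.ext
      intro y
      apply ULift.ext
      have h1 : (((EtCoh.bc (X.fromSpecResidueField x)).map g.unop).left ≫
          pullback.fst U.unop.hom (X.fromSpecResidueField x)) y =
          (pullback.fst V.unop.hom (X.fromSpecResidueField x) ≫ g.unop.left) y :=
        congrArg (fun q : _ ⟶ U.unop.left => q y)
          (EtCoh.isPullback_bc_map (X.fromSpecResidueField x) g.unop).w
      exact congrArg a.down (Subtype.ext h1.symm) }⟩

theorem fromPt_bijective (U : X.Etale) :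
    Function.Bijective ((fromPt x).hom.app (op U)).hom := by
  constructor
  · intro a b h
    apply ULift.ext
    funext v
    obtain ⟨y, hy, -⟩ := fst_bijective x U v
    have h1 := DFunLike.congr_fun (F := LocallyConstant
      ((EtCoh.bc (X.fromSpecResidueField x)).obj U).left (ULift.{u + 1} ℤ)) h y
    have h2 : (⟨_, fst_mem x U y⟩ : Pts X {x} U) = v := Subtype.ext hy
    have h3 := congrArg ULift.down h1
    change a.down ⟨_, fst_mem x U y⟩ = b.down ⟨_, fst_mem x U y⟩ at h3
    rwa [h2] at h3
  · intro b
    let b' : LocallyConstant ((EtCoh.bc (X.fromSpecResidueField x)).obj U).left (ULift.{u + 1} ℤ) := b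
    refine ⟨ULift.up fun v => (b' (fst_bijective x U v).choose).down, ?_⟩
    apply LocallyConstant.ext
    intro y
    apply ULift.ext
    have h1 := (fst_bijective x U ⟨_, fst_mem x U y⟩).choose_spec.2 y rfl
    exact congrArg (fun z => (b' z).down) h1.symm

instance isIso_fromPt : IsIso (fromPt x) :=
  isIso_of_bijective _ (fromPt_bijective x)

/-- `(i_x)_* ℤ` is the sheaf of integer valued functions on the points over `x`. -/
noncomputable def pushConstIso : (EtCoh.push (X.fromSpecResidueField x)).obj
    (EtCoh.const (Spec (X.residueField x)) ℤ) ≅ ptSheaf X {x} :=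
  (EtCoh.push (X.fromSpecResidueField x)).mapIso (constIso _ ℤ) ≪≫ (asIso (fromPt x)).symm

end K316.PtPush
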