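import Groth.Agent.Etcore.IntUnivInj

/-!
# Supports of coproducts of étale sheaves, closed points as closed immersions
-/

set_option autoImplicit false
universe u w

open CategoryTheory CategoryTheory.Limits AlgebraicGeometry Opposite

namespace K316.SuppCofan

/-- The support of a coproduct is contained in the union of the supports. -/
theorem supp_cofan {X : Scheme.{u}} {ι : Type w} (F : ι → EtCoh.Ab X) (c : Cofan F)
    (hc : IsColimit c) : EtPBC.supp c.pt ⊆ ⋃ i, EtPBC.supp (F i) := by
  rintro x ⟨Ω, _, _, ξ, hξ, h⟩
  by_contra hx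
  apply h
  have h1 : IsColimit ((EtCoh.stalk ξ).mapCocone c) := isColimitOfPreserves _ hc
  rw [IsZero.iff_id_eq_zero]
  apply h1.hom_ext
  rintro ⟨i⟩
  refine IsZero.eq_of_src ?_ _ _
  by_contra hz
  exact hx (Set.mem_iUnion.mpr ⟨i, Ω, _, _, ξ, hξ, hz⟩)

/-- A closed point is a closed immersion. -/
theorem isClosedImmersion_fromSpecResidueField {X : Scheme.{u}} (x : X)
    (hx : IsClosed ({x} : Set X)) : IsClosedImmersion (X.fromSpecResidueField x) := by
  refine IsClosedImmersion.of_isPreimmersion _ ?_
  rw [Scheme.range_fromSpecResidueField]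
  exact hx

theorem supp_push_point {X : Scheme.{u}} (x : X) (hx : IsClosed ({x} : Set X))
    (F : EtCoh.Ab (Spec (X.residueField x))) :
    EtPBC.supp ((EtCoh.push (X.fromSpecResidueField x)).obj F) ⊆ {x} := by
  have := isClosedImmersion_fromSpecResidueField x hx
  refine (Groth.Agent.Etcore.IntUnivInj.supp_push (X.fromSpecResidueField x) F).trans ?_
  rw [Scheme.range_fromSpecResidueField]

end K316.SuppCofan
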