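import Groth.Agent.CurvesA.DivTop
import Groth.Agent.CurvesA.GmPull
import Groth.Agent.CurvesA.SkyPoint
import Groth.Agent.Etcore.Stalks
import Groth.Agent.Curves.K316.PtPush
import Groth.Agent.Curves.K316.SuppCofan

/-!
# The sheaf of divisors is the direct sum of the sheaves `i_{x*} ℤ`
-/

set_option autoImplicit false
universe u w

open CategoryTheory CategoryTheory.Limits AlgebraicGeometry Opposite

namespace K316.DivSum

open Groth.Agent.CurvesA Groth.Agent.CurvesA.PtFun Groth.Agent.CurvesA.DivSheaf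
  Groth.Agent.CurvesA.OrdMap Groth.Agent.CurvesA.DivPoint Groth.Agent.CurvesA.DivTop

section general

variable {X : Scheme.{u}}

open Classical in
/-- Extension by zero of functions on points. -/
noncomputable def ext0 (S T : Set X) (h : S ⊆ T) : ptSheaf X S ⟶ ptSheaf X T :=
  ⟨{ app := fun U => AddCommGrpCat.ofHom
      { toFun := fun a => ULift.up (fun v : Pts X T U.unop =>
          if hv : U.unop.hom v.1 ∈ S then a.down ⟨v.1, hv⟩ else 0)
        map_zero' := by
          apply ULift.ext
          funext v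
          change (if hv : U.unop.hom v.1 ∈ S then (0 : ℤ) else 0) = 0
          split_ifs <;> rfl
        map_add' := fun a b => by
          apply ULift.ext
          funext v
          change (if hv : U.unop.hom v.1 ∈ S then a.down ⟨v.1, hv⟩ + b.down ⟨v.1, hv⟩ else 0) =
            (if hv : U.unop.hom v.1 ∈ S then a.down ⟨v.1, hv⟩ else 0) +
            (if hv : U.unop.hom v.1 ∈ S then b.down ⟨v.1, hv⟩ else 0)
          split_ifs
          · rfl
          · rw [add_zero] }
     naturality := fun U V g => by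
      ext a
      apply ULift.ext
      funext v
      change (if hv : V.unop.hom v.1 ∈ S then a.down (Pts.map g.unop ⟨v.1, hv⟩) else 0) =
        (if hv : U.unop.hom (g.unop.left v.1) ∈ S then a.down ⟨g.unop.left v.1, hv⟩ else 0)
      by_cases hv : V.unop.hom v.1 ∈ S
      · have hv' : U.unop.hom (g.unop.left v.1) ∈ S := by rw [hom_apply]; exact hv
        rw [dif_pos hv, dif_pos hv']
        rfl
      · have hv' : U.unop.hom (g.unop.left v.1) ∉ S := by rw [hom_apply]; exact hv
        rw [dif_neg hv, dif_neg hv'] }⟩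

theorem ext0_apply_mem (S T : Set X) (h : S ⊆ T) (U : X.Etale) (a : EtCoh.sect (ptSheaf X S) U)
    (v : Pts X T U) (hv : U.hom v.1 ∈ S) :
    ULift.down (((ext0 S T h).hom.app (op U)).hom a) v = a.down ⟨v.1, hv⟩ := by
  classical
  exact dif_pos hv

theorem ext0_apply_notMem (S T : Set X) (h : S ⊆ T) (U : X.Etale) (a : EtCoh.sect (ptSheaf X S) U)
    (v : Pts X T U) (hv : U.hom v.1 ∉ S) :
    ULift.down (((ext0 S T h).hom.app (op U)).hom a) v = 0 := by
  classical
  exact dif_neg hv

theorem mono_ext0 (S T : Set X) (h : S ⊆ T) : Mono (ext0 S T h) := by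
  apply SheafKer.mono_of_injective
  intro U a b hab
  apply ULift.ext
  funext v
  have h1 := congrFun (congrArg ULift.down hab) ⟨v.1, h v.2⟩
  have h2 := ext0_apply_mem S T h U a ⟨v.1, h v.2⟩ v.2
  have h3 := ext0_apply_mem S T h U b ⟨v.1, h v.2⟩ v.2
  exact h2.symm.trans (h1.trans h3)

/-- A morphism whose sections are locally in the image of a monomorphism lifts. -/
theorem exists_lift {F G H : EtCoh.Ab X} (f : F ⟶ G) [Mono f] (g : H ⟶ G)
    (h : ∀ (U : X.Etale) (t : EtCoh.sect H U) (x : U.left), ∃ (V : X.Etale) (k : V ⟶ U)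
      (v : V.left), k.left v = x ∧ ∃ s : EtCoh.sect F V,
        (f.hom.app (op V)).hom s = G.obj.map k.op ((g.hom.app (op U)).hom t)) :
    ∃ l : H ⟶ F, l ≫ f = g := by
  have h1 : ∀ (U : X.Etale) (t : EtCoh.sect H U), ∃ s : EtCoh.sect F U,
      (f.hom.app (op U)).hom s = (g.hom.app (op U)).hom t := by
    intro U t
    exact exists_of_points f U _ (h U t)
  have hinj := SheafKer.injective_of_mono f
  choose l hl using h1
  let L : H.obj ⟶ F.obj :=
    { app := fun U => AddCommGrpCat.ofHom
        { toFun := fun t => l U.unop t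
          map_zero' := by
            apply hinj
            rw [hl, map_zero, map_zero]
          map_add' := fun a b => by
            apply hinj
            rw [hl, map_add, map_add, hl, hl] }
      naturality := fun U V k => by
        ext t
        apply hinj
        change (f.hom.app (op V.unop)).hom (l V.unop (H.obj.map k t)) =
          (f.hom.app (op V.unop)).hom (F.obj.map k (l U.unop t))
        rw [hl]
        have h2 := SheafKer.hom_app_naturality f k.unop (l U.unop t)
        have h3 := SheafKer.hom_app_naturality g k.unop t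
        rw [hl] at h2
        exact h3.trans h2.symm }
  refine ⟨⟨L⟩, ?_⟩
  apply Sheaf.hom_ext
  ext U t
  exact hl U.unop t

end general

section curve

variable {X : Scheme.{u}} [IsIntegral X] [IsLocallyNoetherian X] (hX : IsDed X)

theorem singleton_subset_ngp (x : X) (hx : x ≠ genericPoint X) : ({x} : Set X) ⊆ ngp X := by
  rintro _ rfl
  exact hx

/-- The inclusion of the functions supported over a closed point in the sheaf of divisors. -/
theorem exists_incl (x : X) (hx : x ≠ genericPoint X) :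
    ∃ l : ptSheaf X {x} ⟶ D X, l ≫ ι hX = ext0 {x} (ngp X) (singleton_subset_ngp x hx) := by
  have := mono_ι hX
  apply exists_lift
  intro U t v
  have hxc : IsClosed ({x} : Set X) := OrdLocal.isClosed_singleton hX x hx
  have hq : LocallyQuasiFinite U.hom := Groth.Agent.Desc.LQF.of_etale U.hom
  have hdisc := U.hom.isDiscrete_preimage_singleton x
  have hc : IsClosed ((U.hom ⁻¹' {x}) \ {v}) :=
    SkyPoint.isClosed_of_subset_isDiscrete (hxc.preimage U.hom.continuous)
      hdisc Set.sdiff_subset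
  let W : U.left.Opens := ⟨_, hc.isOpen_compl⟩
  have hvW : v ∈ W := by
    change v ∉ _ \ _
    simp
  have hW : ∀ w ∈ W, U.hom w = x → w = v := by
    intro w hw hwx
    by_contra hne
    exact hw ⟨hwx, hne⟩
  refine ⟨SkyPoint.openSub U W, SkyPoint.openSubι U W, ⟨v, hvW⟩, rfl, ?_⟩
  obtain ⟨d, hd⟩ := exists_single hX x hx
  by_cases hv : U.hom v = x
  · let n : ℤ := t.down ⟨v, hv⟩
    let τ : SkyPoint.openSub U W ⟶ EtCoh.top X :=
      MorphismProperty.Over.homMk (W.ι ≫ U.hom) (Category.comp_id _) trivial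
    refine ⟨n • (D X).obj.map τ.op d, ?_⟩
    rw [map_zsmul]
    have h1 := SheafKer.hom_app_naturality (ι hX) τ d
    rw [hd] at h1
    rw [h1]
    apply ULift.ext
    funext w
    change n * ind x (U.hom (W.ι w.1)) = _
    by_cases hw : U.hom (W.ι w.1) = x
    · rw [ind_of_eq hw, mul_one]
      have h2 := ext0_apply_mem {x} (ngp X) (singleton_subset_ngp x hx) U t
        (Pts.map (SkyPoint.openSubι U W) w) hw
      refine Eq.trans ?_ h2.symm
      have h3 : W.ι w.1 = v := hW _ w.1.2 hw
      have h4 : (⟨v, hv⟩ : Pts X {x} U) = ⟨(Pts.map (SkyPoint.openSubι U W) w).1, hw⟩ :=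
        Subtype.ext h3.symm
      exact congrArg t.down h4
    · rw [ind_of_ne hw, mul_zero]
      exact (ext0_apply_notMem {x} (ngp X) (singleton_subset_ngp x hx) U t
        (Pts.map (SkyPoint.openSubι U W) w) hw).symm
  · refine ⟨0, ?_⟩
    rw [map_zero]
    apply ULift.ext
    funext w
    refine (ext0_apply_notMem {x} (ngp X) (singleton_subset_ngp x hx) U t
        (Pts.map (SkyPoint.openSubι U W) w) ?_).symm
    intro hw
    have h3 : W.ι w.1 = v := hW _ w.1.2 hw
    apply hv
    rw [← h3]
    exact hw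

/-- The inclusion of the functions supported over a closed point in the sheaf of divisors. -/
noncomputable def incl (x : X) (hx : x ≠ genericPoint X) : ptSheaf X {x} ⟶ D X :=
  (exists_incl hX x hx).choose

theorem incl_ι (x : X) (hx : x ≠ genericPoint X) :
    incl hX x hx ≫ ι hX = ext0 {x} (ngp X) (singleton_subset_ngp x hx) :=
  (exists_incl hX x hx).choose_spec

instance mono_incl (x : X) (hx : x ≠ genericPoint X) : Mono (incl hX x hx) := by
  have h1 : Mono (incl hX x hx ≫ ι hX) := by
    rw [incl_ι]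
    exact mono_ext0 _ _ _
  exact mono_of_mono _ (ι hX)

/-- Locally at `u` a divisor is supported over the image of `u`. -/
theorem exists_local (U : X.Etale) (u : U.left) (d : EtCoh.sect (D X) U) :
    ∃ (V : X.Etale) (g : V ⟶ U) (v : V.left), g.left v = u ∧
      ∀ w : Pts X (ngp X) V, V.hom w.1 ≠ U.hom u →
        ULift.down (((ι hX).hom.app (op V)).hom ((D X).obj.map g.op d)) w = 0 := by
  obtain ⟨R, hR, hd⟩ := SheafKer.locally_of_epi (dv X) U d
  rw [PtFun.mem_iff] at hR
  obtain ⟨V, g, v, hg, hv⟩ := hR u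
  obtain ⟨s, hs⟩ := hd V g hg
  obtain ⟨W, hvW, hW⟩ := OrdLocal.exists_nhd (X := X) V.hom hX v (toUnit s).toMul
  refine ⟨SkyPoint.openSub V W, SkyPoint.openSubι V W ≫ g, ⟨v, hvW⟩, hv, ?_⟩
  rintro ⟨w, hw⟩ hwu
  have h0 : V.hom v = U.hom u := by
    rw [← hv]
    exact (hom_apply g v).symm
  have h1 : V.hom (W.ι w) ≠ genericPoint X := hw
  have h2 : V.hom (W.ι w) ≠ V.hom v := by
    rw [h0]; exact hwu
  have h3 := hW (W.ι w) w.2 h1 h2
  have h4 : ((ι hX).hom.app (op V)).hom (((dv X).hom.app (op V)).hom s) =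
      ((ordMap X hX).hom.app (op V)).hom s := by
    rw [← dv_ι hX]; rfl
  rw [hs] at h4
  have h5 : (D X).obj.map (SkyPoint.openSubι V W ≫ g).op d =
      (D X).obj.map (SkyPoint.openSubι V W).op ((D X).obj.map g.op d) := by
    rw [op_comp, Functor.map_comp]
    rfl
  rw [h5, SheafKer.hom_app_naturality, h4]
  exact h3

theorem surjective_stalk_incl (x : X) (hx : x ≠ genericPoint X) {Ω : Type u} [Field Ω]
    [IsSepClosed Ω] (ξ : Spec (CommRingCat.of Ω) ⟶ X) (hξ : ξ default = x) :
    Function.Surjective ((EtCoh.stalk ξ).map (incl hX x hx)) := by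
  intro p
  obtain ⟨U, u, d, rfl⟩ := Groth.Agent.Etcore.StalkSec.germ_surj ξ (D X) p
  obtain ⟨V, g, v, hv, hsupp⟩ := exists_local hX U (Groth.Agent.Etcore.StalkSec.pt ξ u) d
  obtain ⟨y, hy, -⟩ := Groth.Agent.Etcore.StalkSec.exists_lift ξ g u v hv
  have hxu : U.hom (Groth.Agent.Etcore.StalkSec.pt ξ u) = x :=
    (Groth.Agent.Etcore.StalkSec.hom_pt ξ u).trans hξ
  rw [hxu] at hsupp
  let d' : EtCoh.sect (D X) V := (D X).obj.map g.op d
  let a : EtCoh.sect (ptSheaf X {x}) V := ULift.up fun w =>
    ULift.down (((ι hX).hom.app (op V)).hom d') ⟨w.1, singleton_subset_ngp x hx w.2⟩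
  have h1 : ((incl hX x hx).hom.app (op V)).hom a = d' := by
    have := mono_ι hX
    apply SheafKer.injective_of_mono (ι hX) V
    have h2 : ((ι hX).hom.app (op V)).hom (((incl hX x hx).hom.app (op V)).hom a) =
        ((ext0 {x} (ngp X) (singleton_subset_ngp x hx)).hom.app (op V)).hom a := by
      rw [← incl_ι hX x hx]; rfl
    rw [h2]
    apply ULift.ext
    funext w
    by_cases hw : V.hom w.1 = x
    · exact ext0_apply_mem {x} (ngp X) (singleton_subset_ngp x hx) V a w hw
    · rw [ext0_apply_notMem {x} (ngp X) (singleton_subset_ngp x hx) V a w hw]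
      exact (hsupp w hw).symm
  refine ⟨Groth.Agent.Etcore.Stalks.germ ξ (ptSheaf X {x}) y a, ?_⟩
  rw [Groth.Agent.Etcore.Stalks.germ_map]
  rw [h1]
  refine (Groth.Agent.Etcore.Stalks.germ_res ξ g y d).trans ?_
  rw [hy]
  rfl

theorem isIso_stalk_incl (x : X) (hx : x ≠ genericPoint X) {Ω : Type u} [Field Ω]
    [IsSepClosed Ω] (ξ : Spec (CommRingCat.of Ω) ⟶ X) (hξ : ξ default = x) :
    IsIso ((EtCoh.stalk ξ).map (incl hX x hx)) := by
  rw [ConcreteCategory.isIso_iff_bijective]
  refine ⟨?_, surjective_stalk_incl hX x hx ξ hξ⟩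
  have h1 : Mono ((EtCoh.stalk ξ).map (incl hX x hx)) := inferInstance
  exact (AddCommGrpCat.mono_iff_injective _).1 h1

omit [IsIntegral X] [IsLocallyNoetherian X] in
theorem isZero_stalk_pushConst {x : X} (hx : IsClosed ({x} : Set X)) {Ω : Type u} [Field Ω]
    [IsSepClosed Ω] (ξ : Spec (CommRingCat.of Ω) ⟶ X) (hξ : ξ default ≠ x) :
    IsZero ((EtCoh.stalk ξ).obj ((EtCoh.push (X.fromSpecResidueField x)).obj
      (EtCoh.const (Spec (X.residueField x)) ℤ))) := by
  by_contra hz
  have h1 : Set.range ξ = {ξ default} := by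
    ext y
    constructor
    · rintro ⟨z, rfl⟩
      have : z = default := Subsingleton.elim _ _
      rw [this]
      rfl
    · rintro rfl
      exact ⟨_, rfl⟩
  have h2 : ξ default ∈ EtPBC.supp ((EtCoh.push (X.fromSpecResidueField x)).obj
      (EtCoh.const (Spec (X.residueField x)) ℤ)) := ⟨Ω, _, _, ξ, h1, hz⟩
  exact hξ (K316.SuppCofan.supp_push_point x hx _ h2)

end curve

/-- A coproduct of objects all but one of which are zero. -/
theorem isIso_inj {C : Type*} [Category C] [HasZeroMorphisms C] {J : Type*}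
    (K : Discrete J ⥤ C) (t : Cocone K) (ht : IsColimit t) (i : J)
    (h : ∀ j, j ≠ i → IsZero (K.obj ⟨j⟩)) : IsIso (t.ι.app ⟨i⟩) := by
  classical
  let s : Cocone K := ⟨K.obj ⟨i⟩, Discrete.natTrans fun j =>
    if hj : j.as = i then eqToHom (congrArg K.obj (Discrete.ext hj)) else 0⟩
  have h1 : t.ι.app ⟨i⟩ ≫ ht.desc s = 𝟙 _ := by
    rw [ht.fac]
    exact dif_pos rfl
  refine ⟨ht.desc s, h1, ?_⟩
  apply ht.hom_ext
  rintro ⟨j⟩
  by_cases hj : j = i
  · subst hj
    rw [← Category.assoc, h1, Category.id_comp]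
    exact (Category.comp_id _).symm
  · exact (h j hj).eq_of_src _ _

/-- A coproduct of zero objects is zero. -/
theorem isZero_pt {C : Type*} [Category C] [HasZeroMorphisms C] {J : Type*}
    (K : Discrete J ⥤ C) (t : Cocone K) (ht : IsColimit t) (h : ∀ j, IsZero (K.obj ⟨j⟩)) :
    IsZero t.pt := by
  rw [IsZero.iff_id_eq_zero]
  apply ht.hom_ext
  rintro ⟨j⟩
  exact (h j).eq_of_src _ _

section main

variable {X : Scheme.{u}} [IsIntegral X] [IsLocallyNoetherian X] (hX : IsDed X)
  (hgen : ¬ IsClosed ({genericPoint X} : Set X))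
  (c : Cofan fun x : {x : ↥X // IsClosed ({x} : Set ↥X)} =>
      (EtCoh.push (X.fromSpecResidueField x.1)).obj (EtCoh.const (Spec (X.residueField x.1)) ℤ))
  (hc : IsColimit c)

include hgen in
omit [IsLocallyNoetherian X] in
theorem ne_gen (x : {x : ↥X // IsClosed ({x} : Set ↥X)}) : x.1 ≠ genericPoint X := by
  intro h
  apply hgen
  rw [← h]
  exact x.2

/-- The comparison morphism. -/
noncomputable def φ : c.pt ⟶ D X :=
  Cofan.IsColimit.desc hc fun x =>
    (K316.PtPush.pushConstIso x.1).hom ≫ incl hX x.1 (ne_gen hgen x)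

theorem inj_φ (x : {x : ↥X // IsClosed ({x} : Set ↥X)}) :
    c.inj x ≫ φ hX hgen c hc =
      (K316.PtPush.pushConstIso x.1).hom ≫ incl hX x.1 (ne_gen hgen x) :=
  Cofan.IsColimit.fac hc _ x

theorem isIso_φ : IsIso (φ hX hgen c hc) := by
  apply (Groth.Agent.Etcore.Stalks.isIso_iff_stalks _).2
  intro Ω _ _ ξ
  have hcs : IsColimit ((EtCoh.stalk ξ).mapCocone c) := isColimitOfPreserves _ hc
  by_cases hξ : ξ default = genericPoint X
  · have h1 : IsZero ((EtCoh.stalk ξ).obj c.pt) := by
      refine isZero_pt _ _ hcs fun x => ?_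
      exact isZero_stalk_pushConst x.2 ξ (by rw [hξ]; exact (ne_gen hgen x).symm)
    have h2 : IsZero ((EtCoh.stalk ξ).obj (D X)) :=
      GmPull.isZero_stalk_cokernel ξ hξ
    exact ⟨0, h1.eq_of_src _ _, h2.eq_of_src _ _⟩
  · have hcl : IsClosed ({ξ default} : Set X) := OrdLocal.isClosed_singleton hX _ hξ
    let x : {x : ↥X // IsClosed ({x} : Set ↥X)} := ⟨ξ default, hcl⟩
    have h1 : IsIso ((EtCoh.stalk ξ).map (c.inj x)) := by
      refine isIso_inj _ _ hcs x fun y hy => ?_
      refine isZero_stalk_pushConst y.2 ξ fun h => hy ?_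
      exact Subtype.ext h.symm
    have h2 : IsIso ((EtCoh.stalk ξ).map (c.inj x ≫ φ hX hgen c hc)) := by
      rw [inj_φ, Functor.map_comp]
      have := isIso_stalk_incl hX x.1 (ne_gen hgen x) ξ rfl
      infer_instance
    rw [Functor.map_comp] at h2
    exact IsIso.of_isIso_comp_left ((EtCoh.stalk ξ).map (c.inj x)) _

end main

end K316.DivSum
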