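import Groth.Agent.CurvesC.DualRep
import Groth.Agent.CurvesC.CurveNum
import Groth.Agent.PerfB.PushFLF
import Groth.Agent.Dual.H337.ProjC
import Groth.Agent.S3630
import Groth.Agent.CohqA.ClosedSub
import Groth.Agent.Sga2.PnHomAdj

/-!
# The dualizing module of a closed subscheme of a curve

`i_* ω_Y ≅ Hom(i_*O_Y, ω_X)`, from the representability of the dual of the first cohomology on both sides.
-/

set_option autoImplicit false
set_option linter.style.haveILetI false

universe u

open CategoryTheory CategoryTheory.Limits AlgebraicGeometry Opposite TopologicalSpace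

attribute [local instance] HasDerivedCategory.standard

namespace Groth.Agent.Curves.K316.DualPush

open Groth.Agent.CurvesC

/-- Over a locally Noetherian base finite type implies finite presentation. -/
theorem lfp_of_isLocallyNoetherian {Z S : Scheme.{u}} (f : Z ⟶ S)
    [IsLocallyNoetherian S] [LocallyOfFiniteType f] : LocallyOfFinitePresentation f := by
  rw [HasRingHomProperty.iff_appLE (P := @LocallyOfFinitePresentation)]
  intro U V e
  have := IsLocallyNoetherian.component_noetherian U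
  have h := f.finiteType_appLE U.2 V.2 e
  algebraize [(f.appLE U V e).hom]
  exact RingHom.finitePresentation_algebraMap.mpr (Algebra.FinitePresentation.of_finiteType.mp ‹_›)

section Hom

variable {Z X : Scheme.{u}} (i : Z ⟶ X) [IsClosedImmersion i]

/-- `Hom(i_*O_Z, -) ≅ i_* Hom(O_Z, -)`. -/
noncomputable def sheafHomPush [Dual3.HasHomO i]
    [DCoh.HasSheafHom ((Coh.push i).obj (Coh.structureModule Z))] :
    DCoh.sheafHom ((Coh.push i).obj (Coh.structureModule Z)) ≅
      Dual3.homO i ⋙ Scheme.Modules.pushforward i :=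
  ((DCoh.sheafHomAdj ((Coh.push i).obj (Coh.structureModule Z))).ofNatIsoLeft
    (Dual.H337.ProjC.projIso i _ ≪≫ Functor.isoWhiskerLeft (Scheme.Modules.pullback i)
      (Functor.isoWhiskerRight (Dual.H337.ProjC.unitL Z) (Scheme.Modules.pushforward i) ≪≫
        Functor.leftUnitor _))).rightAdjointUniq
    ((Scheme.Modules.pullbackPushforwardAdjunction i).comp (Dual3.homOAdj i))

theorem isQCoh_sheafHom [IsLocallyNoetherian X]
    [DCoh.HasSheafHom ((Coh.push i).obj (Coh.structureModule Z))] {G : X.Modules}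
    (hG : Coh.IsQCoh G) :
    Coh.IsQCoh ((DCoh.sheafHom ((Coh.push i).obj (Coh.structureModule Z))).obj G) := by
  haveI := lfp_of_isLocallyNoetherian i
  have h1 : Coh.IsQCoh ((Sga2.PnHomAdj.homF ((Coh.push i).obj (Coh.structureModule Z))).obj G) :=
    PerfB.PushFLF.isQCoh_homO i hG
  exact PerfB.QCohLocal.isQCoh_of_iso ((Sga2.PnHomAdj.sheafHomIso _).app G).symm h1

theorem isQCoh_homO [IsLocallyNoetherian X] [Dual3.HasHomO i] {G : X.Modules}
    (hG : Coh.IsQCoh G) : Coh.IsQCoh ((Dual3.homO i).obj G) := by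
  haveI := Sga2.PnHomAdj.hasSheafHom ((Coh.push i).obj (Coh.structureModule Z))
  refine CohqA.ClosedSub.isQCoh_of_isQCoh_pushforward i _ ?_
  exact PerfB.QCohLocal.isQCoh_of_iso ((sheafHomPush i).app G) (isQCoh_sheafHom i hG)

end Hom

section Dual

variable {k : Type u} [Field k] {Z X : Scheme.{u}} [X.Over (Spec (CommRingCat.of k))]
  [Z.Over (Spec (CommRingCat.of k))] (i : Z ⟶ X) [IsClosedImmersion i]
  (hi : i ≫ (X ↘ Spec (CommRingCat.of k)) = Z ↘ Spec (CommRingCat.of k))

/-- `H^n(Z, M) ≃ H^n(X, i_* M)` for the sealed cohomology. -/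
noncomputable def hvPush (M : Z.Modules) (n : ℕ) :
    HV Z M n ≃ₗ[k] HV X ((Scheme.Modules.pushforward i).obj M) n :=
  (HV.equiv k M n).trans ((CurveNum.hhPushₗ k i hi M n).trans (HV.equiv k _ n).symm)

theorem hvPush_map {M N : Z.Modules} (φ : M ⟶ N) (n : ℕ) (x : HV Z M n) :
    hvPush i hi N n (HV.map k φ n x) =
      HV.map k ((Scheme.Modules.pushforward i).map φ) n (hvPush i hi M n x) :=
  CurveNum.abPush_map i ((SheafOfModules.toSheaf Z.ringCatSheaf).map φ) n x

theorem isDual_homO [Dual3.HasHomO i] {w : X.Modules} {t : HV X w 1 →ₗ[k] k} (h : IsDual w t) :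
    IsDual ((Dual3.homO i).obj w) (t ∘ₗ HV.map k ((Dual3.homOAdj i).counit.app w) 1 ∘ₗ
      (hvPush i hi ((Dual3.homO i).obj w) 1).toLinearMap) := by
  intro F hF ψ
  have hq : Coh.IsQCoh ((Scheme.Modules.pushforward i).obj F) :=
    Ega1.QcqsPush.isQCoh_pushforward i _ hF
  have key : ∀ φ : F ⟶ (Dual3.homO i).obj w,
      (t ∘ₗ HV.map k ((Dual3.homOAdj i).counit.app w) 1 ∘ₗ
        (hvPush i hi ((Dual3.homO i).obj w) 1).toLinearMap) ∘ₗ HV.map k φ 1 =
      (t ∘ₗ HV.map k (((Dual3.homOAdj i).homEquiv F w).symm φ) 1) ∘ₗ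
        (hvPush i hi F 1).toLinearMap := by
    intro φ
    ext x
    simp only [LinearMap.comp_apply, LinearEquiv.coe_coe]
    rw [hvPush_map, Adjunction.homEquiv_counit, HV.map_comp]
    rfl
  obtain ⟨φ', hφ', huniq⟩ := h _ hq (ψ ∘ₗ (hvPush i hi F 1).symm.toLinearMap)
  refine ⟨(Dual3.homOAdj i).homEquiv F w φ', ?_, fun φ hφ => ?_⟩
  · dsimp only
    rw [key, Equiv.symm_apply_apply, hφ', LinearMap.comp_assoc]
    ext x
    simp
  · rw [← Equiv.symm_apply_eq]
    refine huniq _ ?_
    dsimp only at hφ ⊢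
    rw [key] at hφ
    rw [← hφ]
    ext x
    simp

end Dual

end Groth.Agent.Curves.K316.DualPush
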