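import Groth.Agent.CalgB.Minors
import Mathlib.RingTheory.MvPowerSeries.Derivative

/-!
# Minors of the Jacobian matrix of a family of power series
-/

set_option autoImplicit false
universe u

namespace K316.JacMinors

open CAlgX Matrix

/-- The ideal generated by the minors with injective selections of rows and columns is the ideal of
minors. -/
theorem span_inj_eq {R : Type u} [CommRing R] {m n : ℕ} (M : Matrix (Fin m) (Fin n) R) (r : ℕ) :
    Ideal.span {d : R | ∃ (ρ : Fin r → Fin m) (γ : Fin r → Fin n), Function.Injective ρ ∧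
      Function.Injective γ ∧ d = (M.submatrix ρ γ).det} = minorIdeal M r := by
  classical
  apply le_antisymm
  · rw [Ideal.span_le]
    rintro _ ⟨ρ, γ, -, -, rfl⟩
    exact Groth.Agent.CalgB.Minors.det_mem_minorIdeal M ρ γ
  · rw [Groth.Agent.CalgB.Minors.minorIdeal_le_iff]
    intro ρ γ
    by_cases hρ : Function.Injective ρ
    · by_cases hγ : Function.Injective γ
      · exact Ideal.subset_span ⟨ρ, γ, hρ, hγ, rfl⟩
      · obtain ⟨a, b, hab, hne⟩ : ∃ a b, γ a = γ b ∧ a ≠ b := by
          simpa [Function.Injective] using hγ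
        rw [Matrix.det_zero_of_column_eq hne (fun i => by simp [hab])]
        exact Ideal.zero_mem _
    · obtain ⟨a, b, hab, hne⟩ : ∃ a b, ρ a = ρ b ∧ a ≠ b := by
        simpa [Function.Injective] using hρ
      rw [Matrix.det_zero_of_row_eq hne (by ext i; simp [hab])]
      exact Ideal.zero_mem _

/-- Two matrices congruent modulo an ideal have the same ideals of minors modulo that ideal. -/
theorem minorIdeal_sup_le_of_congr {R : Type u} [CommRing R] {m n : ℕ}
    (M N : Matrix (Fin m) (Fin n) R) (I : Ideal R) (h : ∀ i j, M i j - N i j ∈ I) (r : ℕ) :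
    minorIdeal M r ≤ minorIdeal N r ⊔ I := by
  classical
  rw [Groth.Agent.CalgB.Minors.minorIdeal_le_iff]
  intro ρ γ
  have h1 : (M.submatrix ρ γ).det - (N.submatrix ρ γ).det ∈ I := by
    rw [← Ideal.Quotient.eq_zero_iff_mem, map_sub, RingHom.map_det, RingHom.map_det, sub_eq_zero]
    congr 1
    ext i j
    simp only [RingHom.mapMatrix_apply, Matrix.map_apply, Matrix.submatrix_apply]
    exact Ideal.Quotient.eq.mpr (h _ _)
  have h2 := Submodule.add_mem_sup (S := minorIdeal N r) (T := I)
    (Groth.Agent.CalgB.Minors.det_mem_minorIdeal N ρ γ) h1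
  simpa using h2

section

variable {k : Type u} [Field k] {n : ℕ}

/-- The Jacobian matrix. -/
noncomputable abbrev jac {m : ℕ} (f : Fin m → MvPowerSeries (Fin n) k) :
    Matrix (Fin m) (Fin n) (MvPowerSeries (Fin n) k) :=
  Matrix.of fun (j : Fin m) (i : Fin n) => MvPowerSeries.pderiv k i (f j)

theorem exists_coeff {R : Type u} [CommRing R] {m l : ℕ} (f : Fin m → R) (g : Fin l → R)
    (h : Ideal.span (Set.range f) ≤ Ideal.span (Set.range g)) :
    ∃ c : Matrix (Fin m) (Fin l) R, ∀ j, f j = ∑ s, c j s * g s := by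
  have h1 : ∀ j, ∃ c : Fin l → R, f j = ∑ s, c s * g s := by
    intro j
    have h2 : f j ∈ Ideal.span (Set.range g) := h (Ideal.subset_span ⟨j, rfl⟩)
    obtain ⟨c, hc⟩ := (Ideal.mem_span_range_iff_exists_fun (R := R)).mp h2
    exact ⟨c, hc.symm⟩
  choose c hc using h1
  exact ⟨c, hc⟩

theorem minorIdeal_jac_le {m l : ℕ} (r : ℕ) (f : Fin m → MvPowerSeries (Fin n) k)
    (g : Fin l → MvPowerSeries (Fin n) k)
    (h : Ideal.span (Set.range f) ≤ Ideal.span (Set.range g)) :
    minorIdeal (jac f) r ≤ minorIdeal (jac g) r ⊔ Ideal.span (Set.range g) := by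
  obtain ⟨c, hc⟩ := exists_coeff f g h
  have h1 : ∀ i j, jac f i j - (c * jac g) i j ∈ Ideal.span (Set.range g) := by
    intro j i
    simp only [Matrix.of_apply, Matrix.mul_apply]
    rw [hc j, map_sum, ← Finset.sum_sub_distrib]
    refine Ideal.sum_mem _ fun s _ => ?_
    rw [Derivation.leibniz]
    simp only [smul_eq_mul]
    rw [add_sub_cancel_left]
    exact Ideal.mul_mem_right _ _ (Ideal.subset_span ⟨s, rfl⟩)
  refine (minorIdeal_sup_le_of_congr _ _ _ h1 r).trans (sup_le_sup_right ?_ _)
  exact Groth.Agent.CalgB.Minors.minorIdeal_mul_le_right c (jac g) r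

theorem minorIdeal_jac_sup_eq {m l : ℕ} (r : ℕ) (f : Fin m → MvPowerSeries (Fin n) k)
    (g : Fin l → MvPowerSeries (Fin n) k)
    (h : Ideal.span (Set.range f) = Ideal.span (Set.range g)) :
    minorIdeal (jac f) r ⊔ Ideal.span (Set.range f) =
      minorIdeal (jac g) r ⊔ Ideal.span (Set.range g) := by
  apply le_antisymm
  · exact sup_le (minorIdeal_jac_le r f g h.le) (h.le.trans le_sup_right)
  · exact sup_le (minorIdeal_jac_le r g f h.ge) (h.ge.trans le_sup_right)

end

end K316.JacMinors
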