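import Groth.Agent.Dix.InterNum
import Groth.Agent.CurvesC.FinMap
import Groth.Agent.CurvesC.InvSec
import Groth.Agent.Grpsch.FinrankGen
import Groth.Agent.Lefpen.H723.P1Flat
import Groth.Agent.Fga.ZeroClass
import Groth.Agent.Picfga.ZeroDiv
import Groth.Agent.S3572
import Groth.Agent.S10829
import Groth.Agent.Lefpen.H717.ProjIrr
import Groth.Agent.CurvesB.HZero

/-!
# Morphisms of a curve to the projective line given by a pencil of sections

* `h0_le_deg`: if the pullback of a nonzero section of the invertible module `L` on a proper integral curve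
  to a closed subscheme `E` vanishes then `dim_k Γ(E, O_E) ≤ deg L`.
* `h0_eq_finrank`: `dim_k Γ(E, O_E)` is the degree of a finite `k`-scheme.
* `const_case`, `nonconst_case`: a morphism to `P^1` is constant or finite and dominant.
* `finrank_stalk_le`: `[k(X) : k(P^1)] ≤ deg L` for `φ : X ⟶ P^1` and `α : φ^* O(1) ⟶ L` nonzero.
* `exists_smul`: the pullbacks of the coordinates along a morphism into a chart are proportional.
-/

set_option autoImplicit false
set_option linter.style.haveILetI false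
universe u
open CategoryTheory CategoryTheory.Limits AlgebraicGeometry Opposite TopologicalSpace

namespace Groth.Agent.Curves.K316.P1Map

open Groth.Agent.Picfga.ZeroDef Groth.Agent.Picfga.ZeroDiv Groth.Agent.Fdesc.LocGen

variable {X Y : Scheme.{u}}

theorem isZeroIdeal_zero (M : Y.Modules) : IsZeroIdeal M (0 : Γ(M, ⊤)) ⊥ := by
  intro U e he a ha
  rw [map_zero] at ha
  have h1 : (0 : Γ(Y, U.1)) • e = a • e := by rw [zero_smul, ha]
  have h2 := he.ext h1
  rw [← h2, Ideal.span_singleton_eq_bot.2 rfl]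
  rfl

/-- The zero scheme is universal. -/
theorem le_ker (h : X ⟶ Y) {M : Y.Modules} (hM : PicF.IsInvertible M) {s : Γ(M, ⊤)}
    {I : Y.IdealSheafData} (hI : IsZeroIdeal M s I) (h0 : pullTop h s = 0) : I ≤ h.ker := by
  have h1 := isZeroIdeal_pullback h hM hI
  rw [h0] at h1
  have h2 := isZeroIdeal_unique (isInvertible_pullback h hM) h1 (isZeroIdeal_zero _)
  rw [← Scheme.IdealSheafData.map_bot, Scheme.IdealSheafData.le_map_iff_comap_le, h2]

/-- The zero ideal of a nonzero section of an invertible module on an integral scheme is effective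
Cartier. -/
theorem isEffCartierIdeal [IsIntegral X] {L : X.Modules} (hL : PicF.IsInvertible L)
    {s : Γ(L, ⊤)} (hs : s ≠ 0) {I : X.IdealSheafData} (hI : IsZeroIdeal L s I) :
    BlowUp.IsEffCartierIdeal I := by
  intro y
  obtain ⟨U, e, hyU, -, he⟩ := exists_affine_gen hL y ⊤ trivial
  obtain ⟨a, ha⟩ := he.exists_eq (res L le_top s)
  refine ⟨U, hyU, a, ?_, hI U e he a ha⟩
  have ha0 : a ≠ 0 := by
    rintro rfl
    rw [zero_smul] at ha
    exact hs (CurvesC.InvSec.eq_zero_of_res_eq_zero hL le_top ⟨y, hyU⟩ s ha)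
  have : Nonempty U.1 := ⟨⟨y, hyU⟩⟩
  exact mem_nonZeroDivisors_of_ne_zero ha0


section deg

open Groth.Agent.Dix.InterNum

/-- `dim_k Γ(E, O_E)` is the degree of `E` over `k`. -/
theorem h0_eq_finrank {k : Type u} [Field k] {E : Scheme.{u}} (q : E ⟶ Spec (CommRingCat.of k))
    [IsFinite q] (x : Spec (CommRingCat.of k)) : h0 q = q.finrank x := by
  haveI : IsAffine E := isAffine_of_isAffineHom q
  letI : Algebra k Γ(E, ⊤) := (glo q).toAlgebra
  have h1 : q = E.isoSpec.hom ≫ Spec.map (CommRingCat.ofHom (algebraMap k Γ(E, ⊤))) := by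
    change q = E.isoSpec.hom ≫ Spec.map (CommRingCat.ofHom (glo q))
    have h2 : CommRingCat.ofHom (glo q) =
      (Scheme.ΓSpecIso (CommRingCat.of k)).inv ≫ q.appTop := rfl
    rw [h2, Spec.map_comp]
    change q = E.toSpecΓ ≫ _
    rw [← Scheme.toSpecΓ_naturality_assoc, toSpecΓ_SpecMap_ΓSpecIso_inv]
    simp
  have hfin : IsFinite (Spec.map (CommRingCat.ofHom (algebraMap k Γ(E, ⊤)))) := by
    have h2 : IsFinite (E.isoSpec.inv ≫ q) := inferInstance
    rw [h1, Iso.inv_hom_id_assoc] at h2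
    exact h2
  haveI : Module.Finite k Γ(E, ⊤) := by
    rw [IsFinite.SpecMap_iff] at hfin
    exact hfin
  conv_rhs => rw [h1]
  rw [Scheme.Hom.finrank_comp_left_of_isIso, Scheme.Hom.finrank_SpecMap_algebraMap]
  rw [Module.rankAtStalk_eq_finrank_of_free]
  rfl

/-- If the pullback of a nonzero section of `L` to a closed subscheme `E` vanishes, then
`dim Γ(E, O_E) ≤ deg L`. -/
theorem h0_le_deg (k : Type u) [Field k] (X : Scheme.{u}) [X.Over (Spec (CommRingCat.of k))]
    [IsIntegral X] [IsProper (X ↘ (Spec (CommRingCat.of k)))] (hdim : topologicalKrullDim X = 1)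
    {L : X.Modules} (hL : PicF.IsInvertible L) {s : Γ(L, ⊤)} (hs : s ≠ 0) {E : Scheme.{u}}
    (e : E ⟶ X) [IsClosedImmersion e] (he : pullTop e s = 0) :
    (h0 (e ≫ (X ↘ (Spec (CommRingCat.of k)))) : ℤ) ≤ Curv2.deg k X L 1 := by
  obtain ⟨I, hI⟩ := exists_zeroIdeal hL s
  have hE := isEffCartierIdeal hL hs hI
  have hinv : ClSub.IsInverseOf L (ClSub.idealMod I) := Fga.ZeroClass.nonempty_iso hL s hI hE
  rw [Dix.InterNum.deg_of_effCartier k X hdim I hE L hinv, Dix.InterNum.finrank_quotMod]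
  have hfin : IsFinite (I.subschemeι ≫ (X ↘ (Spec (CommRingCat.of k)))) :=
    (Groth.Agent.S1604.result k X hdim.le I hE L hL hinv 1 (Coh.structureModule X)
      (Ega2.QCohLocal.isFinLocFreeOfRank_one_iff.2 Fdesc.LocGen.isInvertible_structureModule)).1
  have hle : I.subschemeι.ker ≤ e.ker := by
    rw [Scheme.IdealSheafData.ker_subschemeι]
    exact le_ker e hL hI he
  let j : E ⟶ I.subscheme := IsClosedImmersion.lift I.subschemeι e hle
  have hj : j ≫ I.subschemeι = e := IsClosedImmersion.lift_fac _ _ _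
  haveI : IsClosedImmersion j := by
    haveI : IsClosedImmersion (j ≫ I.subschemeι) := hj ▸ inferInstance
    exact IsClosedImmersion.of_comp j I.subschemeι
  haveI : IsAffine I.subscheme :=
    isAffine_of_isAffineHom (I.subschemeι ≫ (X ↘ (Spec (CommRingCat.of k))))
  have hjs : Function.Surjective j.appTop := (IsClosedImmersion.isAffine_surjective_of_isAffine j).2
  letI m1 : Module k Γ(I.subscheme, ⊤) :=
    Module.compHom Γ(I.subscheme, ⊤) (glo (I.subschemeι ≫ (X ↘ (Spec (CommRingCat.of k)))))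
  letI m2 : Module k Γ(E, ⊤) := Module.compHom Γ(E, ⊤) (glo (e ≫ (X ↘ (Spec (CommRingCat.of k)))))
  haveI hfin' : Module.Finite k Γ(I.subscheme, ⊤) := by
    have h1 := Scheme.Hom.finite_appTop (I.subschemeι ≫ (X ↘ (Spec (CommRingCat.of k))))
    have h2 : (Scheme.ΓSpecIso (CommRingCat.of k)).inv.hom.Finite :=
      RingHom.Finite.of_surjective _
        (ConcreteCategory.bijective_of_isIso (Scheme.ΓSpecIso (CommRingCat.of k)).inv).2
    exact h1.comp h2
  let c : Γ(I.subscheme, ⊤) →ₗ[k] Γ(E, ⊤) :=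
    { toFun := fun z => j.appTop z
      map_add' := fun a b => map_add _ a b
      map_smul' := fun t z => by
        change j.appTop (glo (I.subschemeι ≫ (X ↘ (Spec (CommRingCat.of k)))) t * z) =
          glo (e ≫ (X ↘ (Spec (CommRingCat.of k)))) t * j.appTop z
        rw [map_mul]
        congr 1
        rw [← hj, Category.assoc]
        exact (glo_comp j (I.subschemeι ≫ (X ↘ (Spec (CommRingCat.of k)))) t).symm }
  have hc : Function.Surjective c := hjs
  have h3 := LinearMap.finrank_le_finrank_of_surjective hc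
  exact_mod_cast h3

end deg


section point

variable (k : Type u) [Field k]

/-- The rational point where the coordinate `T_0` vanishes. -/
theorem exists_point : ∃ p : Spec (CommRingCat.of k) ⟶ CohB1.ProjSpace 1 k,
    p ≫ CohB1.ProjSpace.toSpec 1 k = 𝟙 _ ∧
    pullTop p (M := Twist.twistProjSpace 1 k 1) (ProjUP.coord 1 k 0) = 0 := by
  let O := Coh.structureModule (Spec (CommRingCat.of k))
  let s : Fin (1 + 1) → ProjUP.Γm O := ![0, one ⊤]
  have hs : ProjUP.GeneratedBy O s := by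
    intro x
    rw [eq_top_iff]
    intro z _
    have h0 : CycB.ModStalk.IsGenOn O ⊤ (one ⊤) := Fdesc.LocGen.isGen_one ⊤
    obtain ⟨a, rfl⟩ := (h0.isGen x trivial).2 z
    exact Submodule.smul_mem _ a (Submodule.subset_span ⟨1, rfl⟩)
  obtain ⟨p, hp, τ, hτ⟩ := Groth.Agent.S3572.result 1 (𝟙 (Spec (CommRingCat.of k))) O
    isInvertible_structureModule s hs
  refine ⟨p, hp, ?_⟩
  have h1 : τ.hom.app ⊤ (pullTop p (M := Twist.twistProjSpace 1 k 1) (ProjUP.coord 1 k 0)) = 0 :=
    hτ 0
  have h2 := congrArg (τ.inv.app ⊤) h1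
  rw [map_zero] at h2
  have h3 : τ.hom ≫ τ.inv = 𝟙 _ := τ.hom_inv_id
  rw [← h2]
  exact (congr(($(h3).app ⊤) (pullTop p (M := Twist.twistProjSpace 1 k 1)
    (ProjUP.coord 1 k 0)))).symm

end point

section pull

theorem pullTop_zero (e : X ⟶ Y) (M : Y.Modules) : pullTop e (0 : Γ(M, ⊤)) = 0 :=
  map_zero (((Scheme.Modules.pullbackPushforwardAdjunction e).unit.app M).app ⊤).hom

theorem pullTop_eq_zero_comp {E Z W : Scheme.{u}} (e : E ⟶ Z) (f : Z ⟶ Y) (q : E ⟶ W) (p : W ⟶ Y)
    (h : e ≫ f = q ≫ p) {M : Y.Modules} (c : Γ(M, ⊤)) (h0 : pullTop p c = 0) :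
    pullTop e (pullTop f c) = 0 := by
  have h1 := pullSec_comp e f (U := ⊤) c
  have h2 := pullSec_comp q p (U := ⊤) c
  have h3 : pullSec q (pullSec p c) = 0 := by
    have : pullSec p c = 0 := h0
    rw [this]
    exact pullTop_zero q _
  have h4 : pullTop (q ≫ p) c = 0 := by
    have h5 := pullSec_comp' q p (U := ⊤) c
    rw [h3, map_zero] at h5
    exact h5.symm
  have h6 : pullTop (e ≫ f) c = 0 := by rw [h]; exact h4
  have h7 : pullSec (e ≫ f) c = 0 := h6
  rw [h7, map_zero] at h1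
  exact h1.symm

end pull

section main

variable (k : Type u) [Field k] (X : Scheme.{u}) [X.Over (Spec (CommRingCat.of k))]
    [IsIntegral X] [IsProper (X ↘ (Spec (CommRingCat.of k)))]

theorem finrank_le (hdim : topologicalKrullDim X = 1) {L : X.Modules} (hL : PicF.IsInvertible L)
    {s : Γ(L, ⊤)} (hs : s ≠ 0) (φ : X ⟶ CohB1.ProjSpace 1 k)
    (hφ : φ ≫ CohB1.ProjSpace.toSpec 1 k = X ↘ (Spec (CommRingCat.of k))) [IsFinite φ] [Flat φ]
    (α : (Scheme.Modules.pullback φ).obj (Twist.twistProjSpace 1 k 1) ⟶ L)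
    (hα : α.app ⊤ (pullTop φ (M := Twist.twistProjSpace 1 k 1) (ProjUP.coord 1 k 0)) = s) :
    ∃ y, (φ.finrank y : ℤ) ≤ Curv2.deg k X L 1 := by
  obtain ⟨p, hp, hp0⟩ := exists_point k
  haveI : IsClosedImmersion p := by
    haveI : IsClosedImmersion (p ≫ CohB1.ProjSpace.toSpec 1 k) := by rw [hp]; infer_instance
    exact IsClosedImmersion.of_comp p (CohB1.ProjSpace.toSpec 1 k)
  have h1 : pullTop (pullback.fst φ p) s = 0 := by
    rw [← hα]
    have h2 := pullback_map_pullSec (pullback.fst φ p) α (U := ⊤)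
      (pullTop φ (M := Twist.twistProjSpace 1 k 1) (ProjUP.coord 1 k 0))
    refine h2.symm.trans ?_
    have h3 : pullSec (pullback.fst φ p) (pullTop φ (M := Twist.twistProjSpace 1 k 1)
        (ProjUP.coord 1 k 0)) = 0 :=
      pullTop_eq_zero_comp (pullback.fst φ p) φ (pullback.snd φ p) p pullback.condition _ hp0
    rw [h3, map_zero]
    rfl
  have h2 := h0_le_deg k X hdim hL hs (pullback.fst φ p) h1
  have h3 : pullback.fst φ p ≫ (X ↘ (Spec (CommRingCat.of k))) = pullback.snd φ p := by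
    rw [← hφ, pullback.condition_assoc, hp, Category.comp_id]
  rw [h3] at h2
  let x : Spec (CommRingCat.of k) := default
  refine ⟨p x, ?_⟩
  rw [h0_eq_finrank (pullback.snd φ p) x, Scheme.Hom.finrank_pullback_snd] at h2
  exact h2

end main


section const

attribute [local instance] MvPolynomial.gradedAlgebra

/-- A morphism from a proper integral scheme into an affine scheme is constant. -/
theorem eq_of_isAffine {k : Type u} [Field k] {X : Scheme.{u}} (f : X ⟶ Spec (CommRingCat.of k))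
    [IsIntegral X] [UniversallyClosed f] {V : Scheme.{u}} [IsAffine V] (g : X ⟶ V) (x y : X) :
    g x = g y := by
  have hf := isField_of_universallyClosed k f
  have hsub : Subsingleton (Spec Γ(X, ⊤)) := by
    letI := hf.toField
    exact inferInstanceAs (Subsingleton (PrimeSpectrum Γ(X, ⊤)))
  have h1 : V.toSpecΓ (g x) = V.toSpecΓ (g y) := by
    rw [← Scheme.Hom.comp_apply, ← Scheme.Hom.comp_apply, Scheme.toSpecΓ_naturality,
      Scheme.Hom.comp_apply, Scheme.Hom.comp_apply, Subsingleton.elim (X.toSpecΓ x) (X.toSpecΓ y)]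
  exact V.toSpecΓ.injective h1

variable (k : Type u) [Field k]

/-- The standard charts. -/
noncomputable abbrev V (j : Fin (1 + 1)) : (CohB1.ProjSpace 1 k).Opens :=
  Proj.basicOpen (MvPolynomial.homogeneousSubmodule (Fin (1 + 1)) k) (MvPolynomial.X j)

theorem isAffineOpen_V (j : Fin (1 + 1)) : IsAffineOpen (V k j) :=
  VarietyB.ProjStd.isAffineOpen_U (Fin (1 + 1)) k j

theorem iSup_V : ⨆ j, V k j = ⊤ := by
  rw [eq_top_iff]
  intro x _
  rw [Opens.mem_iSup]
  exact PerfB.ProjSpaceCover.exists_mem_basicOpen_X 1 k x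

/-- The ratio `T_i / T_j`. -/
noncomputable def rat (j i : Fin (1 + 1)) : Γ(CohB1.ProjSpace 1 k, V k j) :=
  VarietyB.ProjStd.ratio (Fin (1 + 1)) k j i

/-- The generator `T_j` of `O(1)` over `T_j ≠ 0`. -/
noncomputable def gn (j : Fin (1 + 1)) : Γ(Twist.twistProjSpace 1 k 1, V k j) :=
  Ega2.VeryAmpleCrit.gen k j

theorem rat_self (j : Fin (1 + 1)) : rat k j j = 1 :=
  (VarietyB.ProjStd.stdData (Fin (1 + 1)) k).f_self j

theorem res_coord (i j : Fin (1 + 1)) :
    res (Twist.twistProjSpace 1 k 1) (le_top : V k j ≤ ⊤) (ProjUP.coord 1 k i) =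
      rat k j i • gn k j :=
  Ega2.H18.PnExist.res_coord 1 i j

theorem res_pull {X : Scheme.{u}} (φ : X ⟶ CohB1.ProjSpace 1 k) (i j : Fin (1 + 1)) :
    res ((Scheme.Modules.pullback φ).obj (Twist.twistProjSpace 1 k 1))
      (le_top : φ ⁻¹ᵁ V k j ≤ ⊤)
      (pullTop φ (M := Twist.twistProjSpace 1 k 1) (ProjUP.coord 1 k i)) =
    (φ.app (V k j) (rat k j i) : Γ(X, φ ⁻¹ᵁ V k j)) • pullSec φ (gn k j) := by
  rw [← pullSec_smul, ← res_coord]
  exact res_pullSec φ (le_top : V k j ≤ ⊤) (ProjUP.coord 1 k i)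

/-- If `φ` maps into the chart `T_j ≠ 0` then the pullback of `T_i` is a multiple of that of
`T_j`. -/
theorem exists_smul {X : Scheme.{u}} (φ : X ⟶ CohB1.ProjSpace 1 k) (j : Fin (1 + 1))
    (h : φ ⁻¹ᵁ V k j = ⊤) (i : Fin (1 + 1)) :
    ∃ r : Γ(X, ⊤), pullTop φ (M := Twist.twistProjSpace 1 k 1) (ProjUP.coord 1 k i) =
      r • pullTop φ (M := Twist.twistProjSpace 1 k 1) (ProjUP.coord 1 k j) := by
  have h1 := res_pull k φ i j
  have h2 := res_pull k φ j j
  rw [rat_self, map_one, one_smul] at h2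
  rw [← h2] at h1
  refine ⟨ores (le_of_eq h.symm) (φ.app (V k j) (rat k j i)), ?_⟩
  have h3 := congrArg (res ((Scheme.Modules.pullback φ).obj (Twist.twistProjSpace 1 k 1))
    (le_of_eq h.symm)) h1
  rw [res_smul, res_res, res_res, res_refl, res_refl] at h3
  exact h3

end const


section final

variable (k : Type u) [Field k] (X : Scheme.{u}) [X.Over (Spec (CommRingCat.of k))]
    [IsIntegral X] [IsProper (X ↘ (Spec (CommRingCat.of k)))]

omit [IsIntegral X] in
theorem isProper_of (φ : X ⟶ CohB1.ProjSpace 1 k)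
    (hφ : φ ≫ CohB1.ProjSpace.toSpec 1 k = X ↘ (Spec (CommRingCat.of k))) : IsProper φ := by
  haveI : IsProper (φ ≫ CohB1.ProjSpace.toSpec 1 k) := by rw [hφ]; infer_instance
  exact IsProper.of_comp φ (CohB1.ProjSpace.toSpec 1 k)

/-- The constant case. -/
theorem const_case (φ : X ⟶ CohB1.ProjSpace 1 k)
    (hφ : φ ≫ CohB1.ProjSpace.toSpec 1 k = X ↘ (Spec (CommRingCat.of k)))
    (j : Fin (1 + 1)) (h : φ ⁻¹ᵁ V k j = ⊤) :
    ∃ p : CohB1.ProjSpace 1 k, IsClosed ({p} : Set (CohB1.ProjSpace 1 k)) ∧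
      Set.range φ ⊆ {p} := by
  haveI := isProper_of k X φ hφ
  have h1 : ∀ x, φ x = φ (genericPoint X) := by
    intro x
    have hr : Set.range φ ⊆ Set.range (V k j).ι := by
      rintro _ ⟨z, rfl⟩
      rw [Scheme.Opens.range_ι]
      have : z ∈ φ ⁻¹ᵁ V k j := by rw [h]; trivial
      exact this
    let g : X ⟶ (V k j).toScheme := IsOpenImmersion.lift (V k j).ι φ hr
    have hg : g ≫ (V k j).ι = φ := IsOpenImmersion.lift_fac _ _ _
    haveI : IsAffine (V k j).toScheme := isAffineOpen_V k j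
    rw [← hg, Scheme.Hom.comp_apply, Scheme.Hom.comp_apply,
      eq_of_isAffine (X ↘ (Spec (CommRingCat.of k))) g x (genericPoint X)]
  refine ⟨φ (genericPoint X), ?_, ?_⟩
  · have h2 : Set.range φ = {φ (genericPoint X)} := by
      ext y
      constructor
      · rintro ⟨x, rfl⟩; exact h1 x
      · rintro rfl; exact ⟨_, rfl⟩
    rw [← h2]
    exact φ.isClosedMap.isClosed_range
  · rintro _ ⟨x, rfl⟩
    exact h1 x

/-- The nonconstant case: `φ` is finite and dominant. -/
theorem nonconst_case (hdim : topologicalKrullDim X = 1) (φ : X ⟶ CohB1.ProjSpace 1 k)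
    (hφ : φ ≫ CohB1.ProjSpace.toSpec 1 k = X ↘ (Spec (CommRingCat.of k)))
    (h : ∀ j, φ ⁻¹ᵁ V k j ≠ ⊤) :
    IsFinite φ ∧ φ (genericPoint X) = genericPoint (CohB1.ProjSpace 1 k) ∧
      ∀ p : CohB1.ProjSpace 1 k, ¬ Set.range φ ⊆ {p} := by
  haveI := isProper_of k X φ hφ
  haveI : IsLocallyNoetherian X :=
    LocallyOfFiniteType.isLocallyNoetherian (X ↘ (Spec (CommRingCat.of k)))
  haveI : CompactSpace X :=
    QuasiCompact.compactSpace_of_compactSpace (X ↘ Spec (CommRingCat.of k))
  haveI : IsNoetherian X := {}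
  have hp : ∀ p : CohB1.ProjSpace 1 k, ¬ Set.range φ ⊆ {p} := by
    intro p hp
    have h1 : p ∈ ⨆ j, V k j := by rw [iSup_V]; trivial
    obtain ⟨j, hj⟩ := Opens.mem_iSup.1 h1
    apply h j
    rw [eq_top_iff]
    intro x _
    have h2 : φ x = p := hp ⟨x, rfl⟩
    change φ x ∈ V k j
    rw [h2]
    exact hj
  refine ⟨CurvesC.FinMap.isFinite_of_cover φ hdim.le (V k) (iSup_V k) h, ?_, hp⟩
  by_contra hne
  have h1 : IsClosed ({φ (genericPoint X)} : Set (CohB1.ProjSpace 1 k)) := by
    have hd : topologicalKrullDim (CohB1.ProjSpace 1 k) ≤ 1 := by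
      rw [Groth.Agent.S10829.result k 1]; rfl
    refine CurvesC.Dim1Top.isClosed_singleton_of_mem hd (Z := closure {φ (genericPoint X)})
      isClosed_closure ?_ (subset_closure rfl)
    intro h2
    apply hne
    have h3 : IsGenericPoint (φ (genericPoint X)) (Set.univ : Set (CohB1.ProjSpace 1 k)) := h2
    exact h3.eq (genericPoint_spec _)
  have h2 : IsClosed (φ ⁻¹' {φ (genericPoint X)}) := h1.preimage φ.continuous
  have h3 : φ ⁻¹' {φ (genericPoint X)} = Set.univ := by
    rw [Set.eq_univ_iff_forall]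
    intro x
    exact (genericPoint_specializes x).mem_closed h2 rfl
  apply hp (φ (genericPoint X))
  rintro _ ⟨x, rfl⟩
  have : x ∈ φ ⁻¹' {φ (genericPoint X)} := by rw [h3]; trivial
  exact this

/-- The degree of a nonconstant morphism to `P^1` defined by a pencil of sections of `L` is at most
the degree of `L`. -/
theorem finrank_stalk_le (hdim : topologicalKrullDim X = 1) {L : X.Modules}
    (hL : PicF.IsInvertible L) {s : Γ(L, ⊤)} (hs : s ≠ 0) (φ : X ⟶ CohB1.ProjSpace 1 k)
    (hφ : φ ≫ CohB1.ProjSpace.toSpec 1 k = X ↘ (Spec (CommRingCat.of k)))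
    (h : ∀ j, φ ⁻¹ᵁ V k j ≠ ⊤)
    (α : (Scheme.Modules.pullback φ).obj (Twist.twistProjSpace 1 k 1) ⟶ L)
    (hα : α.app ⊤ (pullTop φ (M := Twist.twistProjSpace 1 k 1) (ProjUP.coord 1 k 0)) = s) :
    letI := (φ.stalkMap (genericPoint X)).hom.toAlgebra
    (Module.finrank ((CohB1.ProjSpace 1 k).presheaf.stalk (φ (genericPoint X)))
      (X.presheaf.stalk (genericPoint X)) : ℤ) ≤ Curv2.deg k X L 1 := by
  obtain ⟨hfin, hgen, -⟩ := nonconst_case k X hdim φ hφ h
  haveI := hfin
  haveI : Flat φ := by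
    refine Lefpen.H723.P1Flat.flat_of_genericPoint k φ ?_
    intro z hz
    rw [hgen] at hz ⊢
    exact (hz.antisymm (genericPoint_specializes z)).eq
  obtain ⟨y, hy⟩ := finrank_le k X hdim hL hs φ hφ α hα
  rw [Grpsch.FinrankGen.finrank_eq_stalk φ hgen y] at hy
  exact hy

end final

end Groth.Agent.Curves.K316.P1Map
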