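import Groth.Agent.Curves.K316.ContDiff
import Groth.Agent.CurvesB.NodeQuad
import Groth.Agent.CurvesC.NodalComplete
import Groth.Agent.Localalg.Depth2
import Groth.Prelude.Def_CAlg

/-!
# Nodes as quotients of power series rings

* `isPrincipal_of_pow`: a local ring with a regular element in the maximal ideal, a power of which is principal.
* `nodeLike_of_fitt`: a complete local algebra containing a regular nonunit whose first Fitting ideal of the
  continuous differentials is the maximal ideal is a node.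
* `fitt_of_quad`, `jac_iff`, `depth_of_isQuad`: the converse, and the Jacobian criterion.
-/

set_option autoImplicit false
set_option linter.style.haveILetI false

universe u

namespace Groth.Agent.Curves.K316.PowNode

open IsLocalRing MvPowerSeries ContDiff
open Groth.Agent.CurvesB.Node Groth.Agent.CurvesC

section Principal

variable {B : Type u} [CommRing B] [IsLocalRing B] [IsNoetherianRing B]

/-- If some power of the maximal ideal is principal and the maximal ideal contains a regular element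
then the maximal ideal is principal. -/
theorem isPrincipal_of_pow {t : B} (ht : t ∈ maximalIdeal B) (hreg : ∀ z, t * z = 0 → z = 0)
    {n : ℕ} (hn : 1 ≤ n) (h : (maximalIdeal B ^ n).IsPrincipal) :
    (maximalIdeal B).IsPrincipal := by
  obtain ⟨m, rfl⟩ := Nat.exists_eq_add_of_le' hn
  obtain ⟨F, hF⟩ := h
  have hF' : maximalIdeal B ^ (m + 1) = Ideal.span {F} := hF
  have htp : ∀ (j : ℕ) (z : B), t ^ j * z = 0 → z = 0 := by
    intro j
    induction j with
    | zero => intro z hz; simpa using hz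
    | succ j ih =>
      intro z hz
      rw [pow_succ, mul_assoc] at hz
      exact hreg z (ih _ hz)
  have hFreg : ∀ z, F * z = 0 → z = 0 := by
    intro z hz
    have h1 : t ^ (m + 1) ∈ Ideal.span {F} := hF' ▸ Ideal.pow_mem_pow ht _
    obtain ⟨w, hw⟩ := Ideal.mem_span_singleton'.mp h1
    apply htp (m + 1)
    rw [← hw, mul_assoc, hz, mul_zero]
  by_cases key : ∀ a ∈ maximalIdeal B, ∀ b ∈ maximalIdeal B ^ m,
      a * b ∈ maximalIdeal B * Ideal.span {F}
  · exfalso
    have h1 : maximalIdeal B ^ (m + 1) ≤ maximalIdeal B • maximalIdeal B ^ (m + 1) := by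
      nth_rewrite 1 [pow_succ']
      rw [Ideal.mul_le, smul_eq_mul, hF']
      exact key
    have h2 := Submodule.eq_bot_of_le_smul_of_le_jacobson_bot (maximalIdeal B)
      (maximalIdeal B ^ (m + 1)) (IsNoetherian.noetherian _) h1
      (by rw [IsLocalRing.jacobson_eq_maximalIdeal _ bot_ne_top])
    rw [hF', Ideal.span_singleton_eq_bot] at h2
    rw [h2] at hFreg
    exact one_ne_zero (hFreg 1 (by ring))
  · push Not at key
    obtain ⟨a, ha, b, hb, hab⟩ := key
    have h1 : a * b ∈ Ideal.span {F} := by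
      rw [← hF', pow_succ']
      exact Ideal.mul_mem_mul ha hb
    obtain ⟨c, hc⟩ := Ideal.mem_span_singleton'.mp h1
    have hcu : IsUnit c := by
      by_contra hcn
      apply hab
      rw [← hc]
      exact Ideal.mul_mem_mul hcn (Ideal.mem_span_singleton_self F)
    have hbreg : ∀ z, b * z = 0 → z = 0 := by
      intro z hz
      have h2 : c * F * z = 0 := by rw [hc, mul_assoc, hz, mul_zero]
      rw [mul_assoc] at h2
      exact hFreg z ((hcu.mul_right_eq_zero).1 h2)
    obtain ⟨d, hd⟩ := hcu.exists_left_inv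
    refine ⟨a, le_antisymm (fun z hz => ?_) ((Submodule.span_singleton_le_iff_mem _ _).2 ha)⟩
    have h3 : z * b ∈ Ideal.span {F} := by
      rw [← hF', pow_succ']
      exact Ideal.mul_mem_mul hz hb
    obtain ⟨w, hw⟩ := Ideal.mem_span_singleton'.mp h3
    have h4 : z - w * d * a = 0 := by
      apply hbreg
      linear_combination (-1 : B) * hw + w * d * hc - w * F * hd
    rw [sub_eq_zero] at h4
    rw [h4]
    exact Ideal.mem_span_singleton'.mpr ⟨w * d, rfl⟩

end Principal

section Square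

variable {k : Type u} [Field k] {n : ℕ}

theorem pderiv_mem (g : MvPowerSeries (Fin n) k)
    (hg : g ∈ maximalIdeal (MvPowerSeries (Fin n) k) ^ 2) (i : Fin n) :
    pderiv k i g ∈ maximalIdeal (MvPowerSeries (Fin n) k) := by
  rw [pow_two] at hg
  refine Submodule.mul_induction_on hg (fun a ha b hb => ?_) (fun a b ha hb => ?_)
  · rw [Derivation.leibniz, smul_eq_mul, smul_eq_mul]
    exact add_mem (Ideal.mul_mem_right _ _ ha) (Ideal.mul_mem_right _ _ hb)
  · rw [map_add]; exact add_mem ha hb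

theorem pderiv_mem_pow (N : ℕ) : ∀ (g : MvPowerSeries (Fin n) k)
    (_ : g ∈ maximalIdeal (MvPowerSeries (Fin n) k) ^ (N + 1)) (i : Fin n),
    pderiv k i g ∈ maximalIdeal (MvPowerSeries (Fin n) k) ^ N := by
  induction N with
  | zero => intro g _ i; simp
  | succ N ih =>
    intro g hg i
    rw [pow_succ'] at hg
    refine Submodule.mul_induction_on hg (fun a ha b hb => ?_) (fun a b ha hb => ?_)
    · rw [Derivation.leibniz, smul_eq_mul, smul_eq_mul]
      refine add_mem ?_ (Ideal.mul_mem_right _ _ hb)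
      rw [pow_succ']
      exact Ideal.mul_mem_mul ha (ih b hb i)
    · rw [map_add]; exact add_mem ha hb

end Square


section Fitt

variable {k : Type u} [Field k] {B : Type u} [CommRing B] [IsLocalRing B] [IsNoetherianRing B]
  [Algebra k B]

omit [IsLocalRing B] [IsNoetherianRing B] in
theorem coord_mem {n : ℕ} (ψ : MvPowerSeries (Fin n) k →ₐ[k] B) (I : Ideal B)
    (h : ∀ g, ψ g = 0 → ∀ i, ψ (pderiv k i g) ∈ I) (v : Fin n → B) (hv : v ∈ relSub ψ)
    (i : Fin n) : v i ∈ I := by
  have h1 : relSub ψ ≤ Submodule.pi Set.univ (fun _ => I) := by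
    rw [relSub, Submodule.span_le]
    rintro _ ⟨g, hg, rfl⟩
    rw [SetLike.mem_coe, Submodule.mem_pi]
    intro j _
    exact h g hg j
  exact Submodule.mem_pi.1 (h1 hv) i trivial

omit [IsLocalRing B] [IsNoetherianRing B] in
theorem det_mem_pow {n : ℕ} (M : Matrix (Fin n) (Fin n) B) (I : Ideal B) (h : ∀ i j, M i j ∈ I) :
    M.det ∈ I ^ n := by
  rw [Matrix.det_apply]
  refine Ideal.sum_mem _ fun σ _ => ?_
  have h1 : ∏ i, M (σ i) i ∈ I ^ n := by
    have h2 := Ideal.prod_mem_prod (s := Finset.univ) (I := fun _ : Fin n => I)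
      (x := fun i => M (σ i) i) (fun i _ => h _ _)
    simpa using h2
  exact (I ^ n).smul_of_tower_mem _ h1

omit [IsLocalRing B] [IsNoetherianRing B] in
theorem fitt_le {n : ℕ} (ψ : MvPowerSeries (Fin n) k →ₐ[k] B) (I : Ideal B)
    (h : ∀ g, ψ g = 0 → ∀ i, ψ (pderiv k i g) ∈ I) (r : ℕ) :
    Fitt.ideal B (Om ψ) r ≤ I ^ (n - r) := by
  rw [Groth.Agent.S6889.result (gen ψ) (span_gen ψ) r, Ideal.span_le]
  rintro _ ⟨z, e, hz, rfl⟩
  refine det_mem_pow _ _ fun a b => ?_
  refine coord_mem ψ I h (z b) ?_ (e a)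
  have h1 := hz b
  rwa [sum_gen, Submodule.mkQ_apply, Submodule.Quotient.mk_eq_zero] at h1

omit [IsLocalRing B] [IsNoetherianRing B] in
theorem fitt_eq_top {n : ℕ} (ψ : MvPowerSeries (Fin n) k →ₐ[k] B) (r : ℕ) (h : n ≤ r) :
    Fitt.ideal B (Om ψ) r = ⊤ := by
  rw [Groth.Agent.S6889.result (gen ψ) (span_gen ψ) r, Ideal.eq_top_iff_one]
  refine Ideal.subset_span ⟨fun _ _ => 0, fun j => ⟨0, ?_⟩, fun j => by simp, ?_⟩
  · have := j.2; omega
  · have h1 : n - r = 0 := by omega
    haveI : IsEmpty (Fin (n - r)) := by rw [h1]; infer_instance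
    rw [Matrix.det_isEmpty]

end Fitt


section Quad

variable {k : Type u} [Field k]

theorem exists_quad (g : MvPowerSeries (Fin 2) k)
    (hg : g ∈ maximalIdeal (MvPowerSeries (Fin 2) k) ^ 2) :
    ∃ α β γ : k, g - NodalAlg.QQ k α β γ ∈ maximalIdeal (MvPowerSeries (Fin 2) k) ^ 3 := by
  have hX : ∀ i : Fin 2, (X i : MvPowerSeries (Fin 2) k) ∈
      maximalIdeal (MvPowerSeries (Fin 2) k) := fun i => by
    rw [K80.PowSerCot.mem_maximalIdeal_mvPowerSeries]; simp
  have h1 := hg
  rw [maximalIdeal_mvPowerSeries, span_pair_sq] at h1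
  obtain ⟨p, z, hz, rfl⟩ := Ideal.mem_span_insert.mp h1
  obtain ⟨q, r, rfl⟩ := Ideal.mem_span_pair.mp hz
  refine ⟨constantCoeff p, constantCoeff q, constantCoeff r, ?_⟩
  have h2 : ∀ s : MvPowerSeries (Fin 2) k, s - C (constantCoeff s) ∈
      maximalIdeal (MvPowerSeries (Fin 2) k) := fun s => by
    rw [K80.PowSerCot.mem_maximalIdeal_mvPowerSeries]; simp
  have h3 : p * X 0 ^ 2 + (q * (X 0 * X 1) + r * X 1 ^ 2) -
      NodalAlg.QQ k (constantCoeff p) (constantCoeff q) (constantCoeff r) =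
      (p - C (constantCoeff p)) * X 0 ^ 2 + (q - C (constantCoeff q)) * (X 0 * X 1) +
        (r - C (constantCoeff r)) * X 1 ^ 2 := by
    rw [NodalAlg.QQ]; ring
  rw [h3, pow_succ' _ 2]
  refine add_mem (add_mem ?_ ?_) ?_
  · exact Ideal.mul_mem_mul (h2 p) (Ideal.pow_mem_pow (hX 0) 2)
  · refine Ideal.mul_mem_mul (h2 q) ?_
    rw [pow_two]
    exact Ideal.mul_mem_mul (hX 0) (hX 1)
  · exact Ideal.mul_mem_mul (h2 r) (Ideal.pow_mem_pow (hX 1) 2)

/-- The gradient of a quadratic form. -/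
def lin (α β γ : k) (i : Fin 2) : k × k := if i = 0 then (2 * α, β) else (β, 2 * γ)

theorem pderiv_QQ (α β γ : k) (i : Fin 2) : pderiv k i (NodalAlg.QQ k α β γ) =
    C (lin α β γ i).1 * X 0 + C (lin α β γ i).2 * X 1 := by
  have h2 : (C (2 : k) : MvPowerSeries (Fin 2) k) = 2 := map_ofNat _ 2
  fin_cases i
  · simp only [NodalAlg.QQ, lin, Fin.zero_eta, map_add, Derivation.leibniz, pderiv_C, pderiv_pow,
      pderiv_X_self, pderiv_X_of_ne (show (1 : Fin 2) ≠ 0 by decide), smul_eq_mul, if_true, map_mul,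
      h2]
    simp
    ring
  · simp only [NodalAlg.QQ, lin, Fin.mk_one, map_add, Derivation.leibniz, pderiv_C, pderiv_pow,
      pderiv_X_self, pderiv_X_of_ne (show (0 : Fin 2) ≠ 1 by decide), smul_eq_mul,
      if_neg (show (1 : Fin 2) ≠ 0 by decide), map_mul, h2]
    simp
    ring

theorem det_eq_zero {α β γ α' β' γ' : k} (h1 : 4 * α * γ - β ^ 2 = 0)
    (h2 : 4 * α' * γ' - β' ^ 2 = 0)
    (h3 : 4 * (α + α') * (γ + γ') - (β + β') ^ 2 = 0) (i j : Fin 2) :
    (lin α β γ i).1 * (lin α' β' γ' j).2 = (lin α β γ i).2 * (lin α' β' γ' j).1 := by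
  have e1 : β ^ 2 = 4 * α * γ := by linear_combination -h1
  have e2 : β' ^ 2 = 4 * α' * γ' := by linear_combination -h2
  have e3 : 2 * β * β' = 4 * (α * γ' + α' * γ) := by linear_combination h1 + h2 - h3
  rw [← sub_eq_zero, ← pow_eq_zero_iff (two_ne_zero)]
  fin_cases i <;> fin_cases j
  · simp only [lin, Fin.zero_eta, if_true]
    linear_combination 4 * α' ^ 2 * e1 + 4 * α ^ 2 * e2 - 4 * α * α' * e3
  · simp only [lin, Fin.zero_eta, Fin.mk_one, if_true, if_neg (show (1 : Fin 2) ≠ 0 by decide)]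
    linear_combination β' ^ 2 * e1 + 4 * α * γ * e2 - 4 * α * γ' * e3
  · simp only [lin, Fin.zero_eta, Fin.mk_one, if_true, if_neg (show (1 : Fin 2) ≠ 0 by decide)]
    linear_combination β' ^ 2 * e1 + 4 * α * γ * e2 - 4 * α' * γ * e3
  · simp only [lin, Fin.mk_one, if_neg (show (1 : Fin 2) ≠ 0 by decide)]
    linear_combination 4 * γ' ^ 2 * e1 + 4 * γ ^ 2 * e2 - 4 * γ * γ' * e3

end Quad


section Key

variable {k : Type u} [Field k] {B : Type u} [CommRing B] [IsLocalRing B] [IsNoetherianRing B]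
  [Algebra k B]

omit [IsLocalRing B] [IsNoetherianRing B] in
theorem map_C (ψ : MvPowerSeries (Fin 2) k →ₐ[k] B) (a : k) : ψ (C a) = algebraMap k B a :=
  ψ.commutes a

theorem isPrincipal_of_le {w : B} (hw : w ∈ maximalIdeal B)
    (h : maximalIdeal B ≤ Ideal.span {w} ⊔ maximalIdeal B ^ 2) :
    (maximalIdeal B).IsPrincipal := by
  have h1 := NodalComplete.span_eq_of_sup w w (IsNoetherian.noetherian _) (by
    rw [Set.pair_eq_singleton]; exact h) hw hw
  rw [Set.pair_eq_singleton] at h1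
  exact ⟨w, h1⟩

omit [IsNoetherianRing B] in
theorem maximalIdeal_eq (ψ : MvPowerSeries (Fin 2) k →ₐ[k] B) (hψ : Function.Surjective ψ) :
    maximalIdeal B = Ideal.span {ψ (X 0), ψ (X 1)} := by
  have h1 := IsLocalRing.map_maximalIdeal_of_surjective (ψ : MvPowerSeries (Fin 2) k →+* B) hψ
  rw [← h1, maximalIdeal_mvPowerSeries, Ideal.map_span, Set.image_pair]
  rfl

theorem key (ψ : MvPowerSeries (Fin 2) k →ₐ[k] B) (hψ : Function.Surjective ψ)
    (hker : ∀ g, ψ g = 0 → g ∈ maximalIdeal (MvPowerSeries (Fin 2) k) ^ 2)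
    (hnp : ¬ (maximalIdeal B).IsPrincipal)
    (hsp : maximalIdeal B = Ideal.span {c | ∃ g i, ψ g = 0 ∧ c = ψ (pderiv k i g)}) :
    ∃ α β γ : k, 4 * α * γ - β ^ 2 ≠ 0 ∧
      NodalAlg.qf (algebraMap k B α) (algebraMap k B β) (algebraMap k B γ) (ψ (X 0)) (ψ (X 1)) ∈
        maximalIdeal B ^ 3 := by
  by_contra hcon
  push Not at hcon
  have hm := maximalIdeal_eq ψ hψ
  have hmap : ∀ (N : ℕ) (g : MvPowerSeries (Fin 2) k),
      g ∈ maximalIdeal (MvPowerSeries (Fin 2) k) ^ N → ψ g ∈ maximalIdeal B ^ N := by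
    intro N g hg
    have h1 := Ideal.mem_map_of_mem (ψ : MvPowerSeries (Fin 2) k →+* B) hg
    rw [Ideal.map_pow, IsLocalRing.map_maximalIdeal_of_surjective
      (ψ : MvPowerSeries (Fin 2) k →+* B) hψ] at h1
    exact h1
  have H : ∀ g, ψ g = 0 → ∀ α β γ : k,
      g - NodalAlg.QQ k α β γ ∈ maximalIdeal (MvPowerSeries (Fin 2) k) ^ 3 →
      4 * α * γ - β ^ 2 = 0 := by
    intro g hg α β γ h
    by_contra hne
    refine hcon α β γ hne ?_
    have h1 := hmap 3 _ h
    rw [map_sub, hg, zero_sub, neg_mem_iff] at h1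
    have h2 : ψ (NodalAlg.QQ k α β γ) = NodalAlg.qf (algebraMap k B α) (algebraMap k B β)
        (algebraMap k B γ) (ψ (X 0)) (ψ (X 1)) := by
      rw [NodalAlg.QQ, NodalAlg.qf]
      simp only [map_add, map_mul, map_pow, map_C]
    rwa [h2] at h1
  have h0 : (0 : B) ∈ {c | ∃ g i, ψ g = 0 ∧ c = ψ (pderiv k i g)} := ⟨0, 0, by simp, by simp⟩
  obtain ⟨c, ⟨g, i, hg, hc⟩, d, ⟨g', j, hg', hd⟩, hcd⟩ :=
    exists_pair_span_eq h0 (hsp.symm.trans hm)
  rw [← hsp] at hcd
  obtain ⟨α, β, γ, e⟩ := exists_quad g (hker g hg)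
  obtain ⟨α', β', γ', e'⟩ := exists_quad g' (hker g' hg')
  have hdet := det_eq_zero (H g hg α β γ e) (H g' hg' α' β' γ' e')
    (H (g + g') (by rw [map_add, hg, hg', add_zero]) (α + α') (β + β') (γ + γ') (by
      have h1 : g + g' - NodalAlg.QQ k (α + α') (β + β') (γ + γ') =
          (g - NodalAlg.QQ k α β γ) + (g' - NodalAlg.QQ k α' β' γ') := by
        simp only [NodalAlg.QQ, map_add]; ring
      rw [h1]
      exact add_mem e e')) i j
  have happ : ∀ (g : MvPowerSeries (Fin 2) k) (α β γ : k) (i : Fin 2),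
      g - NodalAlg.QQ k α β γ ∈ maximalIdeal (MvPowerSeries (Fin 2) k) ^ 3 →
      ψ (pderiv k i g) - (algebraMap k B (lin α β γ i).1 * ψ (X 0) +
        algebraMap k B (lin α β γ i).2 * ψ (X 1)) ∈ maximalIdeal B ^ 2 := by
    intro g α β γ i h
    have h1 := hmap 2 _ (pderiv_mem_pow 2 _ h i)
    rw [map_sub, pderiv_QQ, map_sub, map_add, map_mul, map_mul, map_C, map_C] at h1
    exact h1
  have hc1 := happ g α β γ i e
  have hd1 := happ g' α' β' γ' j e'
  rw [← hc] at hc1
  rw [← hd] at hd1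
  have hcm : c ∈ maximalIdeal B := by rw [hcd]; exact Ideal.subset_span (by simp)
  have hdm : d ∈ maximalIdeal B := by rw [hcd]; exact Ideal.subset_span (by simp)
  by_cases hu : (lin α β γ i).1 = 0 ∧ (lin α β γ i).2 = 0
  · apply hnp
    rw [hu.1, hu.2, map_zero, zero_mul, zero_mul, add_zero, sub_zero] at hc1
    apply isPrincipal_of_le hdm
    conv_lhs => rw [hcd]
    rw [Ideal.span_le]
    rintro z (rfl | rfl)
    · exact Ideal.mem_sup_right hc1
    · exact Ideal.mem_sup_left (Ideal.mem_span_singleton_self _)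
  · apply hnp
    obtain ⟨l, hl1, hl2⟩ : ∃ l : k, (lin α' β' γ' j).1 = l * (lin α β γ i).1 ∧
        (lin α' β' γ' j).2 = l * (lin α β γ i).2 := by
      by_cases h1 : (lin α β γ i).1 = 0
      · have h2 : (lin α β γ i).2 ≠ 0 := fun h => hu ⟨h1, h⟩
        rw [h1, zero_mul] at hdet
        have h3 : (lin α' β' γ' j).1 = 0 := by
          rcases mul_eq_zero.1 hdet.symm with h | h
          · exact absurd h h2
          · exact h
        exact ⟨(lin α' β' γ' j).2 / (lin α β γ i).2, by rw [h1, h3, mul_zero],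
          (div_mul_cancel₀ _ h2).symm⟩
      · refine ⟨(lin α' β' γ' j).1 / (lin α β γ i).1, (div_mul_cancel₀ _ h1).symm, ?_⟩
        field_simp
        linear_combination hdet
    apply isPrincipal_of_le hcm
    conv_lhs => rw [hcd]
    rw [Ideal.span_le]
    rintro z (rfl | rfl)
    · exact Ideal.mem_sup_left (Ideal.mem_span_singleton_self _)
    · have h1 : z - algebraMap k B l * c ∈ maximalIdeal B ^ 2 := by
        have h2 : z - algebraMap k B l * c =
            (z - (algebraMap k B (lin α' β' γ' j).1 * ψ (X 0) +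
              algebraMap k B (lin α' β' γ' j).2 * ψ (X 1))) -
            algebraMap k B l * (c - (algebraMap k B (lin α β γ i).1 * ψ (X 0) +
              algebraMap k B (lin α β γ i).2 * ψ (X 1))) := by
          rw [hl1, hl2, map_mul, map_mul]; ring
        rw [h2]
        exact sub_mem hd1 (Ideal.mul_mem_left _ _ hc1)
      have h3 : z = algebraMap k B l * c + (z - algebraMap k B l * c) := by ring
      rw [SetLike.mem_coe, h3]
      exact add_mem (Ideal.mem_sup_left (Ideal.mul_mem_left _ _ (Ideal.mem_span_singleton_self _)))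
        (Ideal.mem_sup_right h1)

end Key


section Main

variable {k : Type u} [Field k] {B : Type u} [CommRing B] [IsLocalRing B] [IsNoetherianRing B]
  [Algebra k B]

/-- Minimal presentations. -/
theorem exists_minimal [IsAdicComplete (maximalIdeal B) B]
    (hres : Function.Surjective ((residue B).comp (algebraMap k B))) :
    ∃ ψ : MvPowerSeries (Fin (Module.finrank (ResidueField B) (CotangentSpace B))) k →ₐ[k] B,
      Function.Surjective ψ ∧ ∀ g, ψ g = 0 → g ∈ maximalIdeal
        (MvPowerSeries (Fin (Module.finrank (ResidueField B) (CotangentSpace B))) k) ^ 2 := by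
  let b := Module.finBasis (ResidueField B) (CotangentSpace B)
  choose x hx using fun i => (maximalIdeal B).toCotangent_surjective (b i)
  obtain ⟨ψ, hψ⟩ := NodalAlg.exists_evalHom (κ := k) (maximalIdeal B) (fun i => (x i).1)
    (fun i => (x i).2)
  have hψm : ∀ i, ψ (X i) ∈ maximalIdeal B := fun i => by rw [hψ i]; exact (x i).2
  have hb : (fun i => (maximalIdeal B).toCotangent ⟨ψ (X i), hψm i⟩) = b := by
    funext i
    rw [← hx i]
    congr 1
    exact Subtype.ext (hψ i)
  refine ⟨ψ, ?_, ?_⟩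
  · refine K80.PowSerCot.surjective_of_cotangent_span hres ψ hψm ?_
    rw [hb]
    exact b.span_eq
  · intro g hg
    refine K80.PowSerCot.ker_le_sq ψ hψm ?_ hg
    rw [hb]
    exact b.linearIndependent

theorem ne_bot_of_fitt [IsAdicComplete (maximalIdeal B) B]
    (hres : Function.Surjective ((residue B).comp (algebraMap k B)))
    {n : ℕ} (φ : MvPowerSeries (Fin n) k →ₐ[k] B) (hφ : Function.Surjective φ)
    (hfit : Fitt.ideal B (Om φ) 1 = maximalIdeal B) : maximalIdeal B ≠ ⊥ := by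
  intro h
  obtain ⟨ψ, hψ, -⟩ := exists_minimal (k := k) (B := B) hres
  have h1 : (maximalIdeal B).IsPrincipal := by rw [h]; infer_instance
  rw [K360.FittBasic.ideal_congr (equiv φ hφ ψ hψ) 1,
    fitt_eq_top ψ 1 (finrank_cotangentSpace_le_one_iff.2 h1)] at hfit
  exact (maximalIdeal.isMaximal B).ne_top hfit.symm

theorem nodeLike_of_fitt [IsAdicComplete (maximalIdeal B) B]
    (hres : Function.Surjective ((residue B).comp (algebraMap k B)))
    {t : B} (ht : t ∈ maximalIdeal B) (hreg : ∀ z, t * z = 0 → z = 0)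
    {n : ℕ} (φ : MvPowerSeries (Fin n) k →ₐ[k] B) (hφ : Function.Surjective φ)
    (hfit : Fitt.ideal B (Om φ) 1 = maximalIdeal B) : NodeLike B := by
  obtain ⟨ψ, hψ, hker⟩ := exists_minimal (k := k) (B := B) hres
  generalize he : Module.finrank (ResidueField B) (CotangentSpace B) = e at ψ hψ hker
  have hfit' : Fitt.ideal B (Om ψ) 1 = maximalIdeal B := by
    rw [← hfit]
    exact (K360.FittBasic.ideal_congr (equiv φ hφ ψ hψ) 1).symm
  have hkm : ∀ g, ψ g = 0 → ∀ i, ψ (pderiv k i g) ∈ maximalIdeal B := fun g hg i =>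
    mem_of_surjective ψ hψ _ (pderiv_mem g (hker g hg) i)
  have hbot : maximalIdeal B ≠ ⊥ := by
    intro h
    rw [h, Submodule.mem_bot] at ht
    rw [ht] at hreg
    exact one_ne_zero (hreg 1 (zero_mul 1))
  have he2 : e = 2 := by
    by_contra hne
    by_cases h1 : e ≤ 1
    · rw [fitt_eq_top ψ 1 h1] at hfit'
      exact (maximalIdeal.isMaximal B).ne_top hfit'.symm
    · have h2 : maximalIdeal B ≤ maximalIdeal B ^ 2 := by
        conv_lhs => rw [← hfit']
        exact (fitt_le ψ _ hkm 1).trans (Ideal.pow_le_pow_right (by omega))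
      apply hbot
      refine Submodule.eq_bot_of_le_smul_of_le_jacobson_bot (maximalIdeal B)
        (maximalIdeal B) (IsNoetherian.noetherian _) ?_
        (by rw [IsLocalRing.jacobson_eq_maximalIdeal _ bot_ne_top])
      rw [smul_eq_mul, ← pow_two]
      exact h2
  subst he2
  have hnp : ¬ (maximalIdeal B).IsPrincipal := by
    intro h
    have := finrank_cotangentSpace_le_one_iff.2 h
    omega
  have hsp : maximalIdeal B = Ideal.span {c | ∃ g i, ψ g = 0 ∧ c = ψ (pderiv k i g)} := by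
    apply le_antisymm
    · conv_lhs => rw [← hfit']
      refine (fitt_le ψ (Ideal.span {c | ∃ g i, ψ g = 0 ∧ c = ψ (pderiv k i g)})
        (fun g hg i => Ideal.subset_span ⟨g, i, hg, rfl⟩) 1).trans ?_
      simp
    · rw [Ideal.span_le]
      rintro _ ⟨g, i, hg, rfl⟩
      exact hkm g hg i
  obtain ⟨α, β, γ, hd, hq⟩ := key ψ hψ hker hnp hsp
  have hu : IsUnit (4 * algebraMap k B α * algebraMap k B γ - algebraMap k B β ^ 2) := by
    have h1 := (isUnit_iff_ne_zero.2 hd).map (algebraMap k B)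
    simpa only [map_sub, map_mul, map_pow, map_ofNat] using h1
  have hm := maximalIdeal_eq ψ hψ
  obtain ⟨x', y', hx, hy, hrel⟩ := NodalAlg.exists_exact_zero (maximalIdeal B) hu hm hq
  have hxm : ψ (X 0) ∈ maximalIdeal B := by rw [hm]; exact Ideal.subset_span (by simp)
  have hym : ψ (X 1) ∈ maximalIdeal B := by rw [hm]; exact Ideal.subset_span (by simp)
  have hle : maximalIdeal B ^ 2 ≤ maximalIdeal B := Ideal.pow_le_self two_ne_zero
  have hxm' : x' ∈ maximalIdeal B := by
    have := add_mem (hle hx) hxm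
    rwa [sub_add_cancel] at this
  have hym' : y' ∈ maximalIdeal B := by
    have := add_mem (hle hy) hym
    rwa [sub_add_cancel] at this
  have hm' : maximalIdeal B = Ideal.span {x', y'} := by
    refine NodalComplete.span_eq_of_sup x' y' (IsNoetherian.noetherian _) ?_ hxm' hym'
    conv_lhs => rw [hm]
    rw [Ideal.span_le]
    rintro z (rfl | rfl)
    · have h1 : ψ (X 0) = x' - (x' - ψ (X 0)) := by ring
      rw [SetLike.mem_coe, h1]
      exact sub_mem (Ideal.mem_sup_left (Ideal.subset_span (by simp))) (Ideal.mem_sup_right hx)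
    · have h1 : ψ (X 1) = y' - (y' - ψ (X 1)) := by ring
      rw [SetLike.mem_coe, h1]
      exact sub_mem (Ideal.mem_sup_left (Ideal.subset_span (by simp))) (Ideal.mem_sup_right hy)
  have hrel' : algebraMap k B α * x' ^ 2 + algebraMap k B β * x' * y' +
      algebraMap k B γ * y' ^ 2 = 0 := hrel
  exact ⟨⟨x', y', algebraMap k B α, algebraMap k B β, algebraMap k B γ, hm', hu, hrel'⟩,
    fun n hn h => hnp (isPrincipal_of_pow ht hreg hn h)⟩

end Main


section Quadratic

variable {k : Type u} [Field k] {B : Type u} [CommRing B] [IsLocalRing B] [IsNoetherianRing B]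
  [Algebra k B]

open CAlgX Groth.Agent.CalgB.Minors

theorem QQ_mem_sq (a b c : k) :
    NodalAlg.QQ k a b c ∈ maximalIdeal (MvPowerSeries (Fin 2) k) ^ 2 := by
  have hX : ∀ i : Fin 2, (X i : MvPowerSeries (Fin 2) k) ∈
      maximalIdeal (MvPowerSeries (Fin 2) k) := fun i => by
    rw [K80.PowSerCot.mem_maximalIdeal_mvPowerSeries]; simp
  rw [NodalAlg.QQ]
  refine add_mem (add_mem ?_ ?_) ?_
  · exact Ideal.mul_mem_left _ _ (Ideal.pow_mem_pow (hX 0) 2)
  · rw [mul_assoc, pow_two]
    exact Ideal.mul_mem_left _ _ (Ideal.mul_mem_mul (hX 0) (hX 1))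
  · exact Ideal.mul_mem_left _ _ (Ideal.pow_mem_pow (hX 1) 2)

theorem fitt_of_quad {a b c : k} (hd : 4 * a * c - b ^ 2 ≠ 0)
    (e : B ≃ₐ[k] (MvPowerSeries (Fin 2) k ⧸ Ideal.span {NodalAlg.QQ k a b c}))
    {n : ℕ} (φ : MvPowerSeries (Fin n) k →ₐ[k] B) (hφ : Function.Surjective φ) :
    Fitt.ideal B (Om φ) 1 = maximalIdeal B := by
  let ψ : MvPowerSeries (Fin 2) k →ₐ[k] B :=
    e.symm.toAlgHom.comp (Ideal.Quotient.mkₐ k (Ideal.span {NodalAlg.QQ k a b c}))
  have hψ : Function.Surjective ψ := e.symm.surjective.comp Ideal.Quotient.mk_surjective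
  have hψ0 : ∀ g, ψ g = 0 ↔ g ∈ Ideal.span {NodalAlg.QQ k a b c} := by
    intro g
    change e.symm (Ideal.Quotient.mk _ g) = 0 ↔ _
    rw [map_eq_zero_iff _ e.symm.injective, Ideal.Quotient.eq_zero_iff_mem]
  have hf : ∀ g, ψ g = 0 ↔ g ∈ Ideal.span (Set.range ![NodalAlg.QQ k a b c]) := by
    intro g
    rw [hψ0, Matrix.range_cons, Matrix.range_empty, Set.union_empty]
  rw [K360.FittBasic.ideal_congr (equiv φ hφ ψ hψ) 1]
  apply le_antisymm
  · have h1 := fitt_le ψ (maximalIdeal B) (fun g hg i =>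
      mem_of_surjective ψ hψ _ (pderiv_mem g (by
        have h2 := (hψ0 g).1 hg
        exact (Ideal.span_singleton_le_iff_mem _).2 (QQ_mem_sq a b c) h2) i)) 1
    simpa using h1
  · rw [fitt_eq ψ 1 _ hf, ← IsLocalRing.map_maximalIdeal_of_surjective
      (ψ : MvPowerSeries (Fin 2) k →+* B) hψ]
    apply Ideal.map_mono
    have hu : IsUnit (4 * (C a : MvPowerSeries (Fin 2) k) * C c - C b ^ 2) := by
      have h1 := (isUnit_iff_ne_zero.2 hd).map (C : k →+* MvPowerSeries (Fin 2) k)
      simpa only [map_sub, map_mul, map_pow, map_ofNat] using h1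
    have h1 := NodalAlg.lin_mem_span (maximalIdeal (MvPowerSeries (Fin 2) k)) hu
      maximalIdeal_mvPowerSeries
    rw [h1, Ideal.span_le]
    have h2 : (C (2 : k) : MvPowerSeries (Fin 2) k) = 2 := map_ofNat _ 2
    have hdet : ∀ i : Fin 2, pderiv k i (NodalAlg.QQ k a b c) ∈ minorIdeal
        (Matrix.of fun (j : Fin 1) (i : Fin 2) => pderiv k i (![NodalAlg.QQ k a b c] j))
        (2 - 1) := by
      intro i
      have h3 := det_mem_minorIdeal (Matrix.of fun (j : Fin 1) (i : Fin 2) =>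
        pderiv k i (![NodalAlg.QQ k a b c] j)) (r := 1) (fun _ => 0) (fun _ => i)
      simpa using h3
    rintro z (rfl | rfl)
    · have h3 := hdet 0
      rw [pderiv_QQ] at h3
      simpa [lin, h2] using h3
    · have h3 := hdet 1
      rw [pderiv_QQ] at h3
      simpa [lin, h2] using h3

end Quadratic


section Quotient

variable {k : Type u} [Field k] {n : ℕ} (I : Ideal (MvPowerSeries (Fin n) k))
  (hI : I ≤ maximalIdeal (MvPowerSeries (Fin n) k))

instance isNoetherianRing_mvPowerSeries : IsNoetherianRing (MvPowerSeries (Fin n) k) := by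
  have := Groth.Agent.Localalg.RegPowerSeries.isRegularLocalRing_mvPowerSeries k n
  infer_instance

include hI in
theorem isLocalRing_quotient : IsLocalRing (MvPowerSeries (Fin n) k ⧸ I) := by
  have : Nontrivial (MvPowerSeries (Fin n) k ⧸ I) := Ideal.Quotient.nontrivial_iff.mpr
    (fun h => (maximalIdeal.isMaximal (MvPowerSeries (Fin n) k)).ne_top
      (top_le_iff.1 (h ▸ hI)))
  exact IsLocalRing.of_surjective' (Ideal.Quotient.mk I) Ideal.Quotient.mk_surjective

theorem isAdicComplete_quotient [IsLocalRing (MvPowerSeries (Fin n) k ⧸ I)] :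
    IsAdicComplete (maximalIdeal (MvPowerSeries (Fin n) k ⧸ I)) (MvPowerSeries (Fin n) k ⧸ I) := by
  have h1 : IsAdicComplete (maximalIdeal (MvPowerSeries (Fin n) k))
      (MvPowerSeries (Fin n) k ⧸ I) := by
    rw [← AdicCompletion.of_bijective_iff]
    constructor
    · exact AdicCompletion.of_injective_iff.mpr inferInstance
    · have hs : Function.Surjective (AdicCompletion.map
          (maximalIdeal (MvPowerSeries (Fin n) k)) (Submodule.mkQ I)) :=
        AdicCompletion.map_surjective _ (Submodule.mkQ_surjective I)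
      intro y
      obtain ⟨x, rfl⟩ := hs y
      obtain ⟨z, rfl⟩ := (AdicCompletion.of_bijective (maximalIdeal (MvPowerSeries (Fin n) k))
        (MvPowerSeries (Fin n) k)).2 x
      refine ⟨Submodule.mkQ I z, ?_⟩
      rw [AdicCompletion.map_of]
  have h2 : (maximalIdeal (MvPowerSeries (Fin n) k)).map
      (algebraMap (MvPowerSeries (Fin n) k) (MvPowerSeries (Fin n) k ⧸ I)) =
      maximalIdeal (MvPowerSeries (Fin n) k ⧸ I) :=
    IsLocalRing.map_maximalIdeal_of_surjective _ Ideal.Quotient.mk_surjective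
  rw [← h2, IsAdicComplete.map_algebraMap_iff]
  exact h1

theorem residue_surjective' [IsLocalRing (MvPowerSeries (Fin n) k ⧸ I)] :
    Function.Surjective ((residue (MvPowerSeries (Fin n) k ⧸ I)).comp
      (algebraMap k (MvPowerSeries (Fin n) k ⧸ I))) := by
  intro z
  obtain ⟨b, rfl⟩ := residue_surjective z
  obtain ⟨g, rfl⟩ := Ideal.Quotient.mk_surjective b
  refine ⟨constantCoeff g, ?_⟩
  rw [RingHom.comp_apply, ← sub_eq_zero, ← map_sub, residue_eq_zero_iff]
  have h1 : algebraMap k (MvPowerSeries (Fin n) k ⧸ I) (constantCoeff g) -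
      Ideal.Quotient.mk I g = Ideal.Quotient.mkₐ k I (C (constantCoeff g) - g) := by
    rw [map_sub]; rfl
  rw [h1]
  refine mem_of_surjective _ Ideal.Quotient.mk_surjective _ ?_
  rw [K80.PowSerCot.mem_maximalIdeal_mvPowerSeries]
  simp

open CAlgX Groth.Agent.CalgB.Minors

/-- The Jacobian condition is a condition on the first Fitting ideal. -/
theorem jac_iff {m : ℕ} (f : Fin m → MvPowerSeries (Fin n) k)
    (hf : I = Ideal.span (Set.range f)) [IsLocalRing (MvPowerSeries (Fin n) k ⧸ I)]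
    (hI : I ≤ maximalIdeal (MvPowerSeries (Fin n) k)) :
    Fitt.ideal (MvPowerSeries (Fin n) k ⧸ I) (Om (Ideal.Quotient.mkₐ k I)) 1 =
        maximalIdeal (MvPowerSeries (Fin n) k ⧸ I) ↔
      minorIdeal (Matrix.of fun (j : Fin m) (i : Fin n) => pderiv k i (f j)) (n - 1) ⊔ I =
        maximalIdeal (MvPowerSeries (Fin n) k) := by
  have hm : (maximalIdeal (MvPowerSeries (Fin n) k)).map (Ideal.Quotient.mk I) =
      maximalIdeal (MvPowerSeries (Fin n) k ⧸ I) :=
    IsLocalRing.map_maximalIdeal_of_surjective _ Ideal.Quotient.mk_surjective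
  rw [fitt_eq (Ideal.Quotient.mkₐ k I) 1 f (fun g => by
    rw [← hf]; exact Ideal.Quotient.eq_zero_iff_mem)]
  change Ideal.map (Ideal.Quotient.mk I) _ = _ ↔ _
  rw [← hm]
  constructor
  · intro h
    have h1 := congrArg (Ideal.comap (Ideal.Quotient.mk I)) h
    rw [Ideal.comap_map_of_surjective' _ Ideal.Quotient.mk_surjective,
      Ideal.comap_map_of_surjective' _ Ideal.Quotient.mk_surjective, Ideal.mk_ker,
      sup_eq_left.2 hI] at h1
    exact h1
  · intro h
    rw [← h, Ideal.map_sup, Ideal.map_quotient_self, sup_bot_eq]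

end Quotient


section Depth

open RingTheory.Sequence

theorem smul_top_ne {A : Type u} [CommRing A] [IsLocalRing A] (I : Ideal A) [Nontrivial (A ⧸ I)] :
    maximalIdeal A • (⊤ : Submodule A (A ⧸ I)) ≠ ⊤ := by
  intro h
  have h1 := Submodule.eq_bot_of_le_smul_of_le_jacobson_bot (maximalIdeal A)
    (⊤ : Submodule A (A ⧸ I)) Module.Finite.fg_top h.ge
    (by rw [IsLocalRing.jacobson_eq_maximalIdeal _ bot_ne_top])
  exact top_ne_bot h1

theorem exists_regular_of_depth {A : Type u} [CommRing A] [IsLocalRing A] (I : Ideal A)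
    [IsLocalRing (A ⧸ I)] (h : 1 ≤ LocCoh.depth A (A ⧸ I)) :
    ∃ t ∈ maximalIdeal (A ⧸ I), ∀ z, t * z = 0 → z = 0 := by
  rw [LocCoh.depth, LocCoh.idealDepth, if_neg (smul_top_ne I)] at h
  obtain ⟨rs, ⟨h1, h2⟩, h3⟩ : ∃ rs : List A, (IsWeaklyRegular (A ⧸ I) rs ∧
      ∀ r ∈ rs, r ∈ maximalIdeal A) ∧ rs.length ≠ 0 := by
    by_contra hcon
    push Not at hcon
    have h4 : (⨆ (rs : List A) (_ : IsWeaklyRegular (A ⧸ I) rs ∧ ∀ r ∈ rs, r ∈ maximalIdeal A),
        (rs.length : ℕ∞)) ≤ 0 := iSup_le fun rs => iSup_le fun hrs => by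
      rw [hcon rs hrs]; rfl
    exact absurd (h.trans h4) (by simp)
  match rs, h3 with
  | t :: rs, _ =>
    rw [isWeaklyRegular_cons_iff] at h1
    refine ⟨Ideal.Quotient.mk I t, ?_, fun z hz => h1.1 ?_⟩
    · have h4 := IsLocalRing.map_maximalIdeal_of_surjective (Ideal.Quotient.mk I)
        Ideal.Quotient.mk_surjective
      rw [← h4]
      exact Ideal.mem_map_of_mem _ (h2 t (by simp))
    · simp only [smul_zero]
      exact hz

theorem one_le_depth {A : Type u} [CommRing A] [IsLocalRing A] (I : Ideal A)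
    [IsLocalRing (A ⧸ I)] {t : A ⧸ I} (ht : t ∈ maximalIdeal (A ⧸ I))
    (hreg : ∀ z, t * z = 0 → z = 0) : 1 ≤ LocCoh.depth A (A ⧸ I) := by
  rw [LocCoh.depth, LocCoh.idealDepth, if_neg (smul_top_ne I)]
  obtain ⟨s, rfl⟩ := Ideal.Quotient.mk_surjective t
  refine le_iSup₂_of_le [s] ⟨?_, ?_⟩ (by simp)
  · rw [isWeaklyRegular_cons_iff]
    refine ⟨?_, IsWeaklyRegular.nil _ _⟩
    rw [isSMulRegular_iff_right_eq_zero_of_smul]
    exact fun z hz => hreg z hz
  · intro r hr
    rw [List.mem_singleton] at hr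
    subst hr
    by_contra hu
    rw [mem_maximalIdeal, mem_nonunits_iff, not_not] at hu
    exact ht (hu.map _)

theorem depth_le_one {A : Type u} [CommRing A] [IsLocalRing A] [IsNoetherianRing A] (I : Ideal A)
    [Nontrivial (A ⧸ I)] (h : ringKrullDim (A ⧸ I) ≤ 1) : LocCoh.depth A (A ⧸ I) ≤ 1 := by
  obtain ⟨p, hp⟩ := associatedPrimes.nonempty A (A ⧸ I)
  have h1 := Groth.Agent.Localalg.Depth2.depth_le_ringKrullDim_quotient_of_mem_associatedPrimes hp
  have h2 : I ≤ p := by
    have h3 : IsAssociatedPrime p (A ⧸ I) := hp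
    have h4 := h3.annihilator_le
    rwa [Submodule.annihilator_top, Ideal.annihilator_quotient] at h4
  have h5 : ringKrullDim (A ⧸ p) ≤ ringKrullDim (A ⧸ I) :=
    ringKrullDim_le_of_surjective (Ideal.Quotient.factor h2) (Ideal.Quotient.factor_surjective h2)
  have h6 := (h1.trans h5).trans h
  exact_mod_cast h6

end Depth


section Final

variable {k : Type u} [Field k] {n : ℕ} (I : Ideal (MvPowerSeries (Fin n) k))

theorem ringKrullDim_quad_le {a b c : k} (hd : 4 * a * c - b ^ 2 ≠ 0) :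
    ringKrullDim (MvPowerSeries (Fin 2) k ⧸ Ideal.span {NodalAlg.QQ k a b c}) ≤ 1 := by
  have hQ : NodalAlg.QQ k a b c ≠ 0 := by
    intro h
    have h1 : ∀ i, lin a b c i = (0, 0) := by
      intro i
      have h2 := pderiv_QQ a b c i
      rw [h, map_zero] at h2
      have h3 := congrArg (coeff (Finsupp.single 0 1)) h2
      have h4 := congrArg (coeff (Finsupp.single 1 1)) h2
      rw [map_add, map_zero] at h3 h4
      simp only [coeff_C_mul, coeff_X] at h3 h4
      simp [Finsupp.single_left_inj] at h3 h4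
      exact Prod.ext h3.symm h4.symm
    apply hd
    have h5 := h1 0
    simp only [lin, if_true, Prod.mk.injEq] at h5
    linear_combination 2 * c * h5.1 - b * h5.2
  have h1 := ringKrullDim_quotient_succ_le_of_nonZeroDivisor (mem_nonZeroDivisors_of_ne_zero hQ)
  rw [K80.PowSerCot.ringKrullDim_mvPowerSeries] at h1
  have h2 : ((2 : ℕ) : WithBot ℕ∞) = 1 + 1 := rfl
  rw [h2] at h1
  exact (WithBot.add_le_add_iff_right' (by decide) (by decide)).1 h1

variable (hI : I ≤ maximalIdeal (MvPowerSeries (Fin n) k))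

/-- The node condition. -/
def IsQuad : Prop := ∃ a b c : k, 4 * a * c - b ^ 2 ≠ 0 ∧
  Nonempty ((MvPowerSeries (Fin n) k ⧸ I) ≃ₐ[k]
    (MvPowerSeries (Fin 2) k ⧸ Ideal.span {NodalAlg.QQ k a b c}))

theorem isQuad_of_nodeLike [IsLocalRing (MvPowerSeries (Fin n) k ⧸ I)]
    (h : NodeLike (MvPowerSeries (Fin n) k ⧸ I)) : IsQuad I := by
  haveI := isAdicComplete_quotient I
  obtain ⟨a, b, c, hd, e, he⟩ := h.exists_quad_equiv (algebraMap k (MvPowerSeries (Fin n) k ⧸ I))
    (residue_surjective' I)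
  exact ⟨a, b, c, hd, ⟨AlgEquiv.ofRingEquiv (f := e) he⟩⟩

theorem isReduced_of_isQuad (h : IsQuad I) : IsReduced (MvPowerSeries (Fin n) k ⧸ I) := by
  obtain ⟨a, b, c, hd, ⟨e⟩⟩ := h
  haveI := NodalAlg.QQ_quot_isReduced k a b c hd
  exact isReduced_of_injective e e.injective

theorem ne_bot_of_isQuad [IsLocalRing (MvPowerSeries (Fin n) k ⧸ I)] (h : IsQuad I) :
    maximalIdeal (MvPowerSeries (Fin n) k ⧸ I) ≠ ⊥ := by
  obtain ⟨a, b, c, hd, ⟨e⟩⟩ := h
  haveI : IsLocalRing (MvPowerSeries (Fin 2) k ⧸ Ideal.span {NodalAlg.QQ k a b c}) :=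
    isLocalRing_quad a b c
  have hN : NodeLike (MvPowerSeries (Fin 2) k ⧸ Ideal.span {NodalAlg.QQ k a b c}) :=
    @nodeLike_quad k _ a b c hd (isLocalRing_quad a b c)
  have h1 : NodeLike (MvPowerSeries (Fin n) k ⧸ I) := hN.of_ringEquiv e.symm.toRingEquiv
  intro h2
  apply h1.2 1 le_rfl
  rw [pow_one, h2]
  infer_instance

theorem depth_of_isQuad [IsLocalRing (MvPowerSeries (Fin n) k ⧸ I)] (h : IsQuad I) :
    LocCoh.depth (MvPowerSeries (Fin n) k) (MvPowerSeries (Fin n) k ⧸ I) = 1 := by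
  haveI := isReduced_of_isQuad I h
  obtain ⟨t, ht, hreg⟩ := NodalAlg.exists_regular (ne_bot_of_isQuad I h)
  refine le_antisymm ?_ (one_le_depth I ht hreg)
  apply depth_le_one
  obtain ⟨a, b, c, hd, ⟨e⟩⟩ := h
  rw [ringKrullDim_eq_of_ringEquiv e.toRingEquiv]
  exact ringKrullDim_quad_le hd

end Final

end Groth.Agent.Curves.K316.PowNode
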