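import Groth.Agent.Smoothlim.PopFlat
import Mathlib.RingTheory.AdjoinRoot
import Mathlib.RingTheory.Flat.Tensor
import Mathlib.RingTheory.Kaehler.Basic
import Mathlib.Algebra.DualNumber
import Mathlib.RingTheory.RamificationInertia.Ramification

/-!
# The ramification bound `e - 1 ≤ length Ω` for discrete valuation rings

`C` a local Artinian principal algebra over a field `κ` of length `e` with `Ω_{C/κ}` generated by
`dc`: then `C` is étale over `κ[T]/(g^e)`, `g` the minimal polynomial of the residue class of `c`.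
-/

set_option autoImplicit false
set_option linter.style.haveILetI false

open IsLocalRing KaehlerDifferential Polynomial

universe u

namespace Groth.Agent.Curves.K316.RamBound

section Flat

/-- Flatness over a ring with principal ideals, by annihilators. -/
theorem flat_of_annihilator {D C : Type u} [CommRing D] [CommRing C] [Algebra D C]
    (h : ∀ I : Ideal D, ∃ a : D, I = Ideal.span {a} ∧
      ∀ x : C, algebraMap D C a * x = 0 → ∃ b : D, b * a = 0 ∧ ∃ y : C, x = b • y) :
    Module.Flat D C := by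
  rw [Module.Flat.iff_lift_lsmul_comp_subtype_injective]
  intro I _
  obtain ⟨a, rfl, ha⟩ := h I
  rw [injective_iff_map_eq_zero]
  intro z hz
  have haI : a ∈ Ideal.span {a} := Ideal.mem_span_singleton_self a
  have h1 : ∃ x : C, z = TensorProduct.tmul D (⟨a, haI⟩ : Ideal.span {a}) x := by
    clear hz
    induction z using TensorProduct.induction_on with
    | zero => exact ⟨0, (TensorProduct.tmul_zero _ _).symm⟩
    | tmul i x =>
      obtain ⟨i, hi⟩ := i
      obtain ⟨r, rfl⟩ := Ideal.mem_span_singleton'.mp hi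
      refine ⟨r • x, ?_⟩
      rw [← TensorProduct.smul_tmul]
      rfl
    | add z₁ z₂ h₁ h₂ =>
      obtain ⟨x₁, rfl⟩ := h₁
      obtain ⟨x₂, rfl⟩ := h₂
      exact ⟨x₁ + x₂, (TensorProduct.tmul_add _ _ _).symm⟩
  obtain ⟨x, rfl⟩ := h1
  have h2 : algebraMap D C a * x = 0 := by
    rw [← Algebra.smul_def]
    simpa using hz
  obtain ⟨b, hb, y, rfl⟩ := ha x h2
  rw [← TensorProduct.smul_tmul]
  have h3 : b • (⟨a, haI⟩ : Ideal.span {a}) = 0 := Subtype.ext hb
  rw [h3, TensorProduct.zero_tmul]

end Flat

section Adjoin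

variable {κ : Type u} [Field κ] (g : κ[X]) (e : ℕ)

theorem exists_ideal (hg : Irreducible g) (I : Ideal (AdjoinRoot (g ^ e))) :
    ∃ i ≤ e, I = Ideal.span {AdjoinRoot.mk (g ^ e) (g ^ i)} := by
  obtain ⟨p, hp⟩ := IsPrincipalIdealRing.principal (I.comap (AdjoinRoot.mk (g ^ e)))
  have h1 : g ^ e ∈ I.comap (AdjoinRoot.mk (g ^ e)) := by
    rw [Ideal.mem_comap, AdjoinRoot.mk_self]
    exact I.zero_mem
  rw [hp, ← Ideal.span, Ideal.mem_span_singleton] at h1
  obtain ⟨i, hi, h2⟩ := (dvd_prime_pow hg.prime _).mp h1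
  refine ⟨i, hi, ?_⟩
  have h3 : I = (I.comap (AdjoinRoot.mk (g ^ e))).map (AdjoinRoot.mk (g ^ e)) :=
    (Ideal.map_comap_of_surjective _ AdjoinRoot.mk_surjective I).symm
  have h4 : Ideal.span {p} = Ideal.span {g ^ i} := Ideal.span_singleton_eq_span_singleton.mpr h2
  rw [h3, hp, ← Ideal.span, h4, Ideal.map_span, Set.image_singleton]

theorem isMaximal_span (hg : Irreducible g) (he : e ≠ 0) :
    (Ideal.span {AdjoinRoot.mk (g ^ e) g}).IsMaximal := by
  haveI : (Ideal.span {g}).IsMaximal := PrincipalIdealRing.isMaximal_of_irreducible hg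
  have h1 : (Ideal.span {AdjoinRoot.mk (g ^ e) g}) =
      (Ideal.span {g}).map (AdjoinRoot.mk (g ^ e)) := by
    rw [Ideal.map_span, Set.image_singleton]
  rw [h1]
  refine Ideal.IsMaximal.map_of_surjective_of_ker_le AdjoinRoot.mk_surjective ?_
  intro x hx
  rw [RingHom.mem_ker, AdjoinRoot.mk_eq_zero] at hx
  exact Ideal.mem_span_singleton.mpr ((dvd_pow_self g he).trans hx)

theorem eq_of_isMaximal (hg : Irreducible g) (M : Ideal (AdjoinRoot (g ^ e))) [hM : M.IsMaximal] :
    M = Ideal.span {AdjoinRoot.mk (g ^ e) g} := by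
  obtain ⟨i, hi, h⟩ := exists_ideal g e hg M
  have h1 : AdjoinRoot.mk (g ^ e) g ∈ M := by
    refine hM.isPrime.mem_of_pow_mem e ?_
    rw [← map_pow, AdjoinRoot.mk_self]
    exact M.zero_mem
  refine le_antisymm ?_ ((Ideal.span_singleton_le_iff_mem M).mpr h1)
  rcases Nat.eq_zero_or_pos i with rfl | hi'
  · exfalso
    apply hM.ne_top
    rw [h, pow_zero, map_one, Ideal.span_singleton_one]
  · rw [h, Ideal.span_singleton_le_span_singleton, map_pow]
    exact dvd_pow_self _ hi'.ne'

end Adjoin

section Lift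

/-- Lifting along square zero surjections, at the level of ring homomorphisms. -/
theorem exists_lift {D C E Q : Type u} [CommRing D] [CommRing C] [CommRing E] [CommRing Q]
    [Algebra D C] [Algebra.FormallySmooth D C] (ψ : D →+* E) (p : E →+* Q)
    (hp : Function.Surjective p) (hk : ∀ x y, p x = 0 → p y = 0 → x * y = 0) (q : C →+* Q)
    (h : p.comp ψ = q.comp (algebraMap D C)) :
    ∃ f : C →+* E, p.comp f = q ∧ f.comp (algebraMap D C) = ψ := by
  letI : Algebra D E := ψ.toAlgebra
  letI : Algebra D Q := (p.comp ψ).toAlgebra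
  let p' : E →ₐ[D] Q := { p with commutes' := fun _ => rfl }
  let q' : C →ₐ[D] Q := { q with commutes' := fun r => (RingHom.congr_fun h r).symm }
  have hnil : IsNilpotent (RingHom.ker (p' : E →+* Q)) := by
    refine ⟨2, ?_⟩
    rw [pow_two, Ideal.zero_eq_bot, eq_bot_iff, Ideal.mul_le]
    intro x hx y hy
    rw [Ideal.mem_bot]
    exact hk x y hx hy
  refine ⟨(Algebra.FormallySmooth.liftOfSurjective q' p' hp hnil : C →ₐ[D] E), ?_, ?_⟩
  · ext x
    exact Algebra.FormallySmooth.liftOfSurjective_apply q' p' hp hnil x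
  · ext x
    exact (Algebra.FormallySmooth.liftOfSurjective q' p' hp hnil).commutes x

end Lift

section Main

variable {κ C : Type u} [Field κ] [CommRing C] [IsLocalRing C] [Algebra κ C]

theorem exists_pow_mul {γ : C} (hγ : maximalIdeal C = Ideal.span {γ}) {e : ℕ} (h0 : γ ^ e = 0)
    (x : C) : x = 0 ∨ ∃ s < e, ∃ v : Cˣ, x = γ ^ s * v := by
  by_cases hx : x = 0
  · exact Or.inl hx
  refine Or.inr ?_
  have h1 : ∃ s, ¬ (γ ^ s ∣ x) := ⟨e, fun h => hx (by rw [h0] at h; exact zero_dvd_iff.mp h)⟩
  classical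
  have h2 : Nat.find h1 ≠ 0 := by
    intro h3
    have := Nat.find_spec h1
    rw [h3, pow_zero] at this
    exact this (one_dvd x)
  obtain ⟨s, hs⟩ := Nat.exists_eq_succ_of_ne_zero h2
  have h4 : γ ^ s ∣ x := by
    by_contra h5
    exact absurd (Nat.find_min' h1 h5) (by omega)
  have h6 : Nat.find h1 ≤ e :=
    Nat.find_min' h1 fun h => hx (by rw [h0] at h; exact zero_dvd_iff.mp h)
  obtain ⟨y, rfl⟩ := h4
  refine ⟨s, by omega, ?_⟩
  have h7 : IsUnit y := by
    by_contra h8
    have h9 : y ∈ maximalIdeal C := (mem_maximalIdeal _).mpr h8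
    rw [hγ, Ideal.mem_span_singleton] at h9
    obtain ⟨z, rfl⟩ := h9
    have h10 := Nat.find_spec h1
    rw [hs] at h10
    exact h10 ⟨z, by rw [pow_succ]; ring⟩
  obtain ⟨v, rfl⟩ := h7
  exact ⟨v, rfl⟩

/-- The étale step. -/
theorem exists_derivation [Algebra.EssFiniteType κ C] (e : ℕ) (he : e ≠ 0)
    (γ : C) (hγ : maximalIdeal C = Ideal.span {γ}) (h0 : γ ^ e = 0) (h1 : γ ^ (e - 1) ≠ 0)
    (c : C) (hc : ∀ ω : Ω[C⁄κ], ∃ b : C, ω = b • D κ C c)
    (g : κ[X]) (hg : Irreducible g) (hgc : aeval c g ∈ maximalIdeal C) :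
    maximalIdeal C = Ideal.span {aeval c g} ∧
      ∃ δ : Derivation κ C
        (C ⧸ Ideal.span {(e : C) * (aeval c g) ^ (e - 1) * aeval c (derivative g)}), δ c = 1 := by
  have hge : aeval c (g ^ e) = 0 := by
    rw [map_pow]
    rw [hγ, Ideal.mem_span_singleton] at hgc
    obtain ⟨y, hy⟩ := hgc
    rw [hy, mul_pow, h0, zero_mul]
  let D' := AdjoinRoot (g ^ e)
  let φ : D' →+* C := AdjoinRoot.lift (algebraMap κ C) c hge
  letI : Algebra D' C := φ.toAlgebra
  have hφ : ∀ p : κ[X], algebraMap D' C (AdjoinRoot.mk (g ^ e) p) = aeval c p := fun p => by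
    change AdjoinRoot.lift (algebraMap κ C) c hge (AdjoinRoot.mk (g ^ e) p) = aeval c p
    rw [AdjoinRoot.lift_mk]
    rfl
  haveI : IsScalarTower κ D' C := IsScalarTower.of_algebraMap_eq fun x => by
    rw [AdjoinRoot.algebraMap_eq]
    exact (AdjoinRoot.lift_of hge).symm
  haveI hmax : (Ideal.span {AdjoinRoot.mk (g ^ e) g}).IsMaximal := isMaximal_span g e hg he
  haveI : IsLocalRing D' := IsLocalRing.of_unique_max_ideal
    ⟨Ideal.span {AdjoinRoot.mk (g ^ e) g}, hmax, fun M hM => by
      haveI : M.IsMaximal := hM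
      exact eq_of_isMaximal g e hg M⟩
  have hmD : maximalIdeal D' = Ideal.span {AdjoinRoot.mk (g ^ e) g} :=
    eq_of_isMaximal g e hg _
  haveI : IsLocalHom (algebraMap D' C) := by
    rw [((local_hom_TFAE (algebraMap D' C)).out 0 2 :), hmD, Ideal.map_span, Set.image_singleton,
      hφ, Ideal.span_singleton_le_iff_mem]
    exact hgc
  haveI : Algebra.EssFiniteType D' C := Algebra.EssFiniteType.of_comp κ D' C
  haveI : IsNoetherianRing D' := inferInstanceAs (IsNoetherianRing (κ[X] ⧸ _))
  haveI : Algebra.FormallyUnramified D' C := by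
    constructor
    refine subsingleton_of_forall_eq 0 fun z => ?_
    obtain ⟨ω, rfl⟩ := KaehlerDifferential.map_surjective κ D' C z
    obtain ⟨b, rfl⟩ := hc ω
    have h2 : c = algebraMap D' C (AdjoinRoot.mk (g ^ e) X) := by rw [hφ, aeval_X]
    rw [map_smul, KaehlerDifferential.map_D]
    have h3 : D D' C c = 0 := by
      conv_lhs => rw [h2]
      exact Derivation.map_algebraMap _ _
    change b • D D' C c = 0
    rw [h3, smul_zero]
  have hmC : maximalIdeal C = Ideal.span {aeval c g} := by
    rw [← Algebra.FormallyUnramified.map_maximalIdeal (R := D') (S := C), hmD, Ideal.map_span,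
      Set.image_singleton, hφ]
  refine ⟨hmC, ?_⟩
  have hg1 : aeval c g ^ (e - 1) ≠ 0 := by
    intro h
    apply h1
    have : γ ∈ Ideal.span {aeval c g} := by
      rw [← hmC, hγ]
      exact Ideal.mem_span_singleton_self γ
    obtain ⟨y, rfl⟩ := Ideal.mem_span_singleton.mp this
    rw [mul_pow, h, zero_mul]
  have hg0 : aeval c g ^ e = 0 := by rw [← map_pow, hge]
  haveI : Module.Flat D' C := by
    refine flat_of_annihilator fun I => ?_
    obtain ⟨i, hi, rfl⟩ := exists_ideal g e hg I
    refine ⟨_, rfl, fun x hx => ?_⟩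
    rw [hφ, map_pow] at hx
    refine ⟨AdjoinRoot.mk (g ^ e) (g ^ (e - i)), ?_, ?_⟩
    · rw [← map_mul, ← pow_add, Nat.sub_add_cancel hi, AdjoinRoot.mk_self]
    · simp only [Algebra.smul_def, hφ, map_pow]
      rcases exists_pow_mul hmC hg0 x with rfl | ⟨s, hs, v, rfl⟩
      · exact ⟨0, by simp⟩
      · have h2 : e - i ≤ s := by
          by_contra h3
          push Not at h3
          apply hg1
          rw [← mul_assoc, ← pow_add, Units.mul_left_eq_zero] at hx
          exact pow_eq_zero_of_le (by omega) hx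
        refine ⟨aeval c g ^ (s - (e - i)) * v, ?_⟩
        rw [← mul_assoc, ← pow_add, Nat.add_sub_cancel' h2]
  have hnil : IsNilpotent (maximalIdeal D') := by
    refine ⟨e, ?_⟩
    rw [hmD, Ideal.span_singleton_pow, ← map_pow, AdjoinRoot.mk_self]
    simp
  haveI : Algebra.Etale D' C :=
    Smoothlim.PopFlat.etale_of_flat_of_formallyUnramified hnil
  set J : Ideal C := Ideal.span {(e : C) * (aeval c g) ^ (e - 1) * aeval c (derivative g)} with hJ
  let Q := C ⧸ J
  let E := DualNumber Q
  let inl : Q →ₐ[κ] E := TrivSqZeroExt.inlAlgHom κ Q Q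
  let c' : E := inl (Ideal.Quotient.mk J c) + DualNumber.eps
  have hin : ∀ p : κ[X], aeval (inl (Ideal.Quotient.mk J c)) p = inl (Ideal.Quotient.mk J (aeval c p)) := by
    intro p
    rw [Polynomial.aeval_algHom_apply]
    congr 1
    exact Polynomial.aeval_algHom_apply (Ideal.Quotient.mkₐ κ J) c p
  have hc' : (g ^ e).eval₂ (algebraMap κ E) c' = 0 := by
    change aeval c' (g ^ e) = 0
    rw [Polynomial.aeval_add_of_sq_eq_zero _ _ _ (by rw [pow_two, DualNumber.eps_mul_eps]),
      hin, hin, hge, map_zero, map_zero, zero_add, derivative_pow]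
    have h2 : Ideal.Quotient.mk J (aeval c (Polynomial.C (e : κ) * g ^ (e - 1) * derivative g)) = 0 := by
      rw [Ideal.Quotient.eq_zero_iff_mem, hJ]
      simp only [map_mul, map_pow, map_natCast]
      exact Ideal.mem_span_singleton_self _
    rw [h2, map_zero, zero_mul]
  let ψ : D' →+* E := AdjoinRoot.lift (algebraMap κ E) c' hc'
  have hψ : ∀ p : κ[X], ψ (AdjoinRoot.mk (g ^ e) p) = aeval c' p := fun p => by
    change AdjoinRoot.lift (algebraMap κ E) c' hc' (AdjoinRoot.mk (g ^ e) p) = _
    rw [AdjoinRoot.lift_mk]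
    rfl
  obtain ⟨f, hf1, hf2⟩ := exists_lift (D := D') (C := C) (E := E) (Q := Q) ψ
    (TrivSqZeroExt.fstHom κ Q Q : E →+* Q) (fun x => ⟨TrivSqZeroExt.inl x, rfl⟩)
    (fun x y hx hy => by
      change TrivSqZeroExt.fst x = 0 at hx
      change TrivSqZeroExt.fst y = 0 at hy
      ext
      · rw [TrivSqZeroExt.fst_mul, hx, zero_mul]; rfl
      · rw [TrivSqZeroExt.snd_mul, hx, hy]; simp)
    (Ideal.Quotient.mk J) (by
      refine AdjoinRoot.ringHom_ext ?_ ?_
      · ext x
        change TrivSqZeroExt.fst (ψ (AdjoinRoot.of (g ^ e) x)) =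
          Ideal.Quotient.mk J (algebraMap D' C (AdjoinRoot.of (g ^ e) x))
        rw [← AdjoinRoot.mk_C, hψ, hφ, aeval_C, aeval_C]
        rfl
      · change TrivSqZeroExt.fst (ψ (AdjoinRoot.mk (g ^ e) X)) =
          Ideal.Quotient.mk J (algebraMap D' C (AdjoinRoot.mk (g ^ e) X))
        rw [hψ, hφ, aeval_X, aeval_X]
        change TrivSqZeroExt.fst (TrivSqZeroExt.inl (Ideal.Quotient.mk J c) + DualNumber.eps) = _
        rw [TrivSqZeroExt.fst_add, TrivSqZeroExt.fst_inl, DualNumber.fst_eps, add_zero])
  have hfst : ∀ x, TrivSqZeroExt.fst (f x) = Ideal.Quotient.mk J x := fun x =>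
    RingHom.congr_fun hf1 x
  have hfalg : ∀ x : κ, f (algebraMap κ C x) = algebraMap κ E x := by
    intro x
    rw [IsScalarTower.algebraMap_apply κ D' C]
    change (f.comp (algebraMap D' C)) _ = _
    rw [hf2]
    exact AdjoinRoot.lift_of hc'
  let δ₀ : C →ₗ[κ] Q :=
    { toFun := fun x => TrivSqZeroExt.snd (f x)
      map_add' := fun x y => by rw [map_add, TrivSqZeroExt.snd_add]
      map_smul' := fun a x => by
        rw [Algebra.smul_def, map_mul, hfalg, TrivSqZeroExt.algebraMap_eq_inl',
          TrivSqZeroExt.snd_mul, TrivSqZeroExt.fst_inl, TrivSqZeroExt.snd_inl, smul_zero, add_zero,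
          RingHom.id_apply, smul_eq_mul, Algebra.smul_def] }
  have hδ₀ : ∀ x, δ₀ x = TrivSqZeroExt.snd (f x) := fun x => rfl
  let δ : Derivation κ C Q := Derivation.mk' δ₀ fun x y => by
    rw [hδ₀, hδ₀, hδ₀, map_mul, TrivSqZeroExt.snd_mul, hfst, hfst, op_smul_eq_smul,
      smul_eq_mul, smul_eq_mul, Algebra.smul_def x, Algebra.smul_def y]
    rfl
  refine ⟨δ, ?_⟩
  have h2 : f c = c' := by
    have h3 : c = algebraMap D' C (AdjoinRoot.mk (g ^ e) X) := by rw [hφ, aeval_X]
    conv_lhs => rw [h3]
    change (f.comp (algebraMap D' C)) _ = _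
    rw [hf2, hψ, aeval_X]
  change TrivSqZeroExt.snd (f c) = 1
  rw [h2]
  change TrivSqZeroExt.snd (TrivSqZeroExt.inl (Ideal.Quotient.mk J c) + DualNumber.eps) = 1
  rw [TrivSqZeroExt.snd_add, TrivSqZeroExt.snd_inl, DualNumber.snd_eps, zero_add]

end Main

section Cyclic

variable {A B : Type u} [CommRing A] [CommRing B] [IsLocalRing B] [Algebra A B]

/-- A cyclic module of differentials over a local ring is generated by an exact differential. -/
theorem exists_span_D [Algebra.EssFiniteType A B] (hcyc : ∃ ω : Ω[B⁄A], Submodule.span B {ω} = ⊤) :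
    ∃ b : B, ∀ ω : Ω[B⁄A], ∃ r : B, ω = r • D A B b := by
  obtain ⟨ω₀, hω₀⟩ := hcyc
  have hgen : ∀ ω : Ω[B⁄A], ∃ r : B, ω = r • ω₀ := fun ω => by
    have : ω ∈ Submodule.span B {ω₀} := hω₀ ▸ Submodule.mem_top
    obtain ⟨r, hr⟩ := Submodule.mem_span_singleton.mp this
    exact ⟨r, hr.symm⟩
  by_cases h : ∀ b : B, D A B b ∈ (maximalIdeal B) • (⊤ : Submodule B Ω[B⁄A])
  · have h1 : (⊤ : Submodule B Ω[B⁄A]) ≤ (maximalIdeal B) • (⊤ : Submodule B Ω[B⁄A]) := by
      rw [← KaehlerDifferential.span_range_derivation, Submodule.span_le]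
      rintro _ ⟨b, rfl⟩
      rw [KaehlerDifferential.span_range_derivation]
      exact h b
    have h2 : (⊤ : Submodule B Ω[B⁄A]) = ⊥ := by
      refine Submodule.eq_bot_of_le_smul_of_le_jacobson_bot (maximalIdeal B) ⊤ ?_ h1 ?_
      · exact ⟨{ω₀}, by simpa using hω₀⟩
      · exact (IsLocalRing.maximalIdeal_le_jacobson _)
    refine ⟨0, fun ω => ⟨0, ?_⟩⟩
    have : ω ∈ (⊤ : Submodule B Ω[B⁄A]) := Submodule.mem_top
    rw [h2, Submodule.mem_bot] at this
    rw [this, zero_smul]
  · push Not at h
    obtain ⟨b, hb⟩ := h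
    obtain ⟨u, hu⟩ := hgen (D A B b)
    have hu' : IsUnit u := by
      by_contra h3
      apply hb
      rw [hu]
      exact Submodule.smul_mem_smul ((mem_maximalIdeal _).mpr h3) Submodule.mem_top
    obtain ⟨v, rfl⟩ := hu'
    refine ⟨b, fun ω => ?_⟩
    obtain ⟨r, rfl⟩ := hgen ω
    refine ⟨r * (v⁻¹ : Bˣ), ?_⟩
    rw [hu, smul_smul, mul_assoc, Units.inv_mul, mul_one]

end Cyclic

section DVR

variable {A B : Type u} [CommRing A] [IsLocalRing A] [CommRing B] [IsDomain B]
  [IsDiscreteValuationRing B] [Algebra A B] [IsLocalHom (algebraMap A B)]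

theorem map_eq_pow (h0 : (maximalIdeal A).map (algebraMap A B) ≠ ⊥) :
    Ideal.ramificationIdx (maximalIdeal B) A ≠ 0 ∧ (maximalIdeal A).map (algebraMap A B) =
      maximalIdeal B ^ (Ideal.ramificationIdx (maximalIdeal B) A) := by
  obtain ⟨ϖ, hϖ⟩ := IsDiscreteValuationRing.exists_irreducible B
  obtain ⟨n, hn⟩ := IsDiscreteValuationRing.ideal_eq_span_pow_irreducible h0 hϖ
  have h1 : (maximalIdeal A).map (algebraMap A B) = maximalIdeal B ^ n := by
    rw [hn, hϖ.maximalIdeal_eq, Ideal.span_singleton_pow]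
  have hb : maximalIdeal B ≠ ⊥ := IsDiscreteValuationRing.not_a_field B
  have h2 : Ideal.ramificationIdx (maximalIdeal B) A = n := by
    rw [Ideal.IsDedekindDomain.ramificationIdx_eq_multiplicity (maximalIdeal A) (maximalIdeal B) h0,
      h1]
    exact multiplicity_pow_self hb (by
      rw [Ideal.isUnit_iff]
      exact (maximalIdeal.isMaximal B).ne_top) n
  rw [h2]
  refine ⟨?_, h1⟩
  rintro rfl
  rw [pow_zero, Ideal.one_eq_top] at h1
  have h3 : (maximalIdeal A).map (algebraMap A B) ≤ maximalIdeal B :=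
    ((local_hom_TFAE (algebraMap A B)).out 0 2 :).mp inferInstance
  rw [h1] at h3
  exact (maximalIdeal.isMaximal B).ne_top (top_le_iff.mp h3)

theorem main [Algebra.EssFiniteType A B] [Module.Finite (ResidueField A) (ResidueField B)]
    (h0 : (maximalIdeal A).map (algebraMap A B) ≠ ⊥)
    (hcyc : ∃ ω : Ω[B⁄A], Submodule.span B {ω} = ⊤) :
    (((Ideal.ramificationIdx (maximalIdeal B) A - 1 : ℕ) : ℕ∞) ≤ Module.length B Ω[B⁄A]) ∧
      (Module.length B Ω[B⁄A] = ((Ideal.ramificationIdx (maximalIdeal B) A - 1 : ℕ) : ℕ∞) ↔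
        (Algebra.IsSeparable (ResidueField A) (ResidueField B) ∧
          ((Ideal.ramificationIdx (maximalIdeal B) A : ℕ) : ResidueField A) ≠ 0)) := by
  obtain ⟨he, hmap⟩ := map_eq_pow (A := A) (B := B) h0
  set e := Ideal.ramificationIdx (maximalIdeal B) A
  -- the special fibre
  let κ := ResidueField A
  let L := ResidueField B
  let C := B ⧸ maximalIdeal B ^ e
  have hle : maximalIdeal A ≤ (maximalIdeal B ^ e).comap (algebraMap A B) := by
    rw [← Ideal.map_le_iff_le_comap, hmap]
  letI : Algebra κ C := (Ideal.quotientMap (maximalIdeal B ^ e) (algebraMap A B) hle).toAlgebra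
  haveI : IsScalarTower A κ C := IsScalarTower.of_algebraMap_eq fun x => rfl
  haveI : Algebra.EssFiniteType A C := Algebra.EssFiniteType.comp A B C
  haveI : Algebra.EssFiniteType κ C := Algebra.EssFiniteType.of_comp A κ C
  have hne : maximalIdeal B ^ e ≠ ⊤ := by
    intro h
    exact (maximalIdeal.isMaximal B).ne_top (top_le_iff.mp (h ▸ Ideal.pow_le_self he))
  haveI : Nontrivial C := Ideal.Quotient.nontrivial_iff.mpr hne
  haveI : IsLocalRing C := .of_surjective' (Ideal.Quotient.mk _) Ideal.Quotient.mk_surjective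
  have hmC : maximalIdeal C = (maximalIdeal B).map (Ideal.Quotient.mk (maximalIdeal B ^ e)) :=
    (map_maximalIdeal_of_surjective _ Ideal.Quotient.mk_surjective).symm
  obtain ⟨π, hπ⟩ := IsDiscreteValuationRing.exists_irreducible B
  have hπm : maximalIdeal B = Ideal.span {π} := hπ.maximalIdeal_eq
  let γ : C := Ideal.Quotient.mk _ π
  have hγ : maximalIdeal C = Ideal.span {γ} := by
    rw [hmC]
    refine (congrArg (Ideal.map (Ideal.Quotient.mk (maximalIdeal B ^ e))) hπm).trans ?_
    rw [Ideal.map_span, Set.image_singleton]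
  have hγ0 : γ ^ e = 0 := by
    rw [← map_pow, Ideal.Quotient.eq_zero_iff_mem]
    exact Ideal.pow_mem_pow (hπm ▸ Ideal.mem_span_singleton_self π) e
  have hγ1 : γ ^ (e - 1) ≠ 0 := by
    rw [← map_pow, Ne, Ideal.Quotient.eq_zero_iff_mem, hπm, Ideal.span_singleton_pow,
      Ideal.mem_span_singleton]
    intro h
    have h2 := (pow_dvd_pow_iff hπ.ne_zero hπ.not_isUnit).mp h
    omega
  obtain ⟨b, hb⟩ := exists_span_D (A := A) (B := B) hcyc
  let c : C := Ideal.Quotient.mk _ b
  -- the residue field
  let q : C →+* L := Ideal.Quotient.factor (Ideal.pow_le_self he)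
  have hq : ∀ x : B, q (Ideal.Quotient.mk _ x) = residue B x := fun x => rfl
  have hqm : ∀ x : C, q x = 0 ↔ x ∈ maximalIdeal C := by
    intro x
    obtain ⟨x, rfl⟩ := Ideal.Quotient.mk_surjective x
    rw [hq, residue_eq_zero_iff, hmC, Ideal.mem_map_iff_of_surjective _ Ideal.Quotient.mk_surjective]
    constructor
    · exact fun h => ⟨x, h, rfl⟩
    · rintro ⟨y, hy, hxy⟩
      rw [Ideal.Quotient.eq] at hxy
      have := Ideal.pow_le_self he hxy
      have h2 := (maximalIdeal B).sub_mem hy this
      simpa using h2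
  let q' : C →ₐ[κ] L := { q with
    commutes' := fun r => by
      obtain ⟨r, rfl⟩ := residue_surjective r
      rfl }
  have hq' : ∀ x, q' x = q x := fun x => rfl
  have hint : IsIntegral κ (residue B b) := Algebra.IsIntegral.isIntegral _
  let g : κ[X] := minpoly κ (residue B b)
  have hg : Irreducible g := minpoly.irreducible hint
  have hag : ∀ p : κ[X], q (aeval c p) = aeval (residue B b) p := fun p => by
    rw [← hq']
    exact (Polynomial.aeval_algHom_apply q' c p).symm
  have hgc : aeval c g ∈ maximalIdeal C := by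
    rw [← hqm, hag]
    exact minpoly.aeval _ _
  have hC : ∀ ω : Ω[C⁄κ], ∃ r : C, ω = r • D κ C c := by
    intro ω
    obtain ⟨ω', rfl⟩ := KaehlerDifferential.map_surjective_of_surjective A κ B C
      Ideal.Quotient.mk_surjective ω
    obtain ⟨r, rfl⟩ := hb ω'
    refine ⟨Ideal.Quotient.mk _ r, ?_⟩
    rw [map_smul, KaehlerDifferential.map_D]
    exact (algebraMap_smul C r _).symm
  obtain ⟨hspan, δ, hδ⟩ := exists_derivation e he γ hγ hγ0 hγ1 c hC g hg hgc
  -- the annihilator of `D b`
  have hann : ∀ a : B, a • D A B b = 0 → (Ideal.Quotient.mk _ a : C) ∈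
      Ideal.span {(e : C) * (aeval c g) ^ (e - 1) * aeval c (derivative g)} := by
    intro a ha
    have h1 : (Ideal.Quotient.mk _ a : C) • D κ C c = 0 := by
      have h2 := congrArg (KaehlerDifferential.map A κ B C) ha
      rw [map_smul, KaehlerDifferential.map_D, map_zero] at h2
      exact h2
    have h3 := congrArg δ.liftKaehlerDifferential h1
    rw [map_smul, Derivation.liftKaehlerDifferential_comp_D, hδ, map_zero] at h3
    rw [← Ideal.Quotient.eq_zero_iff_mem, ← h3, Algebra.smul_def, mul_one]
    rfl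
  let ℓ : B →ₗ[B] Ω[B⁄A] := LinearMap.toSpanSingleton B _ (D A B b)
  have hℓ : Function.Surjective ℓ := fun ω => by
    obtain ⟨r, hr⟩ := hb ω
    exact ⟨r, by rw [LinearMap.toSpanSingleton_apply, hr]⟩
  have hlen : Module.length B Ω[B⁄A] = Module.length B (B ⧸ LinearMap.ker ℓ) :=
    (LinearMap.quotKerEquivOfSurjective ℓ hℓ).symm.length_eq
  have hkey : e - 1 < e := by omega
  -- separability
  have hunit : ∀ p : κ[X], IsUnit (aeval c p) ↔ aeval (residue B b) p ≠ 0 := fun p => by
    rw [← hag, Ne, hqm, mem_maximalIdeal, mem_nonunits_iff, not_not]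
  have hsep : Algebra.IsSeparable κ L ↔ IsUnit (aeval c (derivative g)) := by
    rw [hunit]
    constructor
    · intro h
      exact (Algebra.IsSeparable.isSeparable κ (residue B b)).aeval_derivative_ne_zero
        (minpoly.aeval _ _)
    · intro h
      rw [← Algebra.FormallyUnramified.iff_isSeparable κ L]
      constructor
      refine subsingleton_of_forall_eq 0 fun ω => ?_
      obtain ⟨ω', rfl⟩ := KaehlerDifferential.map_surjective_of_surjective A κ B L
        residue_surjective ω
      obtain ⟨r, rfl⟩ := hb ω'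
      rw [map_smul, KaehlerDifferential.map_D]
      have h1 : aeval (residue B b) (derivative g) • D κ L (residue B b) = 0 := by
        rw [← Derivation.map_aeval, minpoly.aeval, map_zero]
      have h2 : D κ L (residue B b) = 0 := (smul_eq_zero.mp h1).resolve_left h
      change r • D κ L (residue B b) = 0
      rw [h2, smul_zero]
  by_cases htame : Algebra.IsSeparable κ L ∧ ((e : ℕ) : κ) ≠ 0
  · have hpowC : Ideal.span {aeval c g ^ (e - 1)} =
        (maximalIdeal B ^ (e - 1)).map (Ideal.Quotient.mk (maximalIdeal B ^ e)) := by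
      rw [← Ideal.span_singleton_pow, ← hspan, hmC, Ideal.map_pow]
    have hker : LinearMap.ker ℓ = maximalIdeal B ^ (e - 1) := by
      refine le_antisymm ?_ ?_
      · intro a ha
        have h1 : (Ideal.Quotient.mk _ a : C) ∈ Ideal.span {aeval c g ^ (e - 1)} := by
          refine Ideal.span_singleton_le_span_singleton.mpr ?_ (hann a ha)
          exact ⟨(e : C) * aeval c (derivative g), by ring⟩
        rw [hpowC, Ideal.mem_map_iff_of_surjective _ Ideal.Quotient.mk_surjective] at h1
        obtain ⟨y, hy, hxy⟩ := h1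
        rw [Ideal.Quotient.eq] at hxy
        have h2 := Ideal.pow_le_pow_right hkey.le hxy
        have h3 := (maximalIdeal B ^ (e - 1)).sub_mem hy h2
        simpa using h3
      · obtain ⟨G, hG⟩ := Polynomial.map_surjective (residue A) residue_surjective g
        have hGp : ∀ P : A[X], aeval c (P.map (residue A)) =
            (Ideal.Quotient.mk (maximalIdeal B ^ e) (aeval b P) : C) := fun P => by
          have h1 : aeval c (P.map (algebraMap A κ)) = aeval c P :=
            Polynomial.aeval_map_algebraMap κ c P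
          have h2 : aeval c P = Ideal.Quotient.mkₐ A (maximalIdeal B ^ e) (aeval b P) :=
            (Polynomial.aeval_algHom_apply (Ideal.Quotient.mkₐ A (maximalIdeal B ^ e)) b P)
          exact h1.trans h2
        have hGc : aeval c g = (Ideal.Quotient.mk (maximalIdeal B ^ e) (aeval b G) : C) := by
          rw [← hG, hGp]
        have hDm : ∀ x ∈ (maximalIdeal A).map (algebraMap A B),
            D A B x ∈ (maximalIdeal B ^ e) • (⊤ : Submodule B Ω[B⁄A]) := by
          intro x hx
          rw [← hmap]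
          induction hx using Submodule.span_induction with
          | mem x h =>
            obtain ⟨a, -, rfl⟩ := h
            rw [Derivation.map_algebraMap]
            exact Submodule.zero_mem _
          | zero => rw [map_zero]; exact Submodule.zero_mem _
          | add x y _ _ hx hy => rw [map_add]; exact Submodule.add_mem _ hx hy
          | smul r x hx' hx =>
            rw [smul_eq_mul, Derivation.leibniz]
            exact Submodule.add_mem _ (Submodule.smul_mem _ _ hx)
              (Submodule.smul_mem_smul hx' Submodule.mem_top)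
        have h1 : aeval b G ^ e ∈ maximalIdeal B ^ e := by
          rw [← Ideal.Quotient.eq_zero_iff_mem, map_pow, ← hGc]
          have h2 : γ ∣ aeval c g := by
            rw [← Ideal.mem_span_singleton, ← hγ]
            exact hgc
          obtain ⟨y, hy⟩ := h2
          rw [hy, mul_pow, hγ0, zero_mul]
        rw [← hmap] at h1
        have h2 := hDm _ h1
        rw [Derivation.leibniz_pow, Derivation.map_aeval] at h2
        have hue : IsUnit (e : B) := by
          by_contra h3
          have h4 : residue B (e : B) = 0 := (residue_eq_zero_iff _).mpr ((mem_maximalIdeal _).mpr h3)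
          rw [map_natCast, ← map_natCast (algebraMap κ L)] at h4
          exact htame.2 ((map_eq_zero _).mp h4)
        have huG : IsUnit (aeval b (derivative G)) := by
          by_contra h3
          have h4 : residue B (aeval b (derivative G)) = 0 :=
            (residue_eq_zero_iff _).mpr ((mem_maximalIdeal _).mpr h3)
          rw [← hq, ← hGp, ← derivative_map, hG, hag] at h4
          exact (hunit _).mp (hsep.mp htame.1) h4
        have h5 : aeval b G ^ (e - 1) • D A B b ∈
            (maximalIdeal B ^ e) • (⊤ : Submodule B Ω[B⁄A]) := by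
          obtain ⟨v, hv⟩ := hue
          obtain ⟨w, hw⟩ := huG
          have h6 := Submodule.smul_mem _ ((v⁻¹ : Bˣ) * (w⁻¹ : Bˣ) : B) h2
          rw [← Nat.cast_smul_eq_nsmul B, ← hv, ← hw, smul_smul, smul_smul, smul_smul] at h6
          convert h6 using 2
          calc aeval b G ^ (e - 1) = aeval b G ^ (e - 1) * ((v⁻¹ : Bˣ) * v) * ((w⁻¹ : Bˣ) * w) := by
                rw [Units.inv_mul, Units.inv_mul, mul_one, mul_one]
            _ = _ := by ring
        have h7 : maximalIdeal B ^ (e - 1) • (⊤ : Submodule B Ω[B⁄A]) ≤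
            maximalIdeal B • (maximalIdeal B ^ (e - 1) • (⊤ : Submodule B Ω[B⁄A])) := by
          rw [← Submodule.mul_smul, ← pow_succ', Nat.sub_add_cancel (Nat.one_le_iff_ne_zero.mpr he),
            Submodule.smul_le]
          intro x hx ω _
          have h8 : (Ideal.Quotient.mk (maximalIdeal B ^ e) x : C) ∈
              Ideal.span {aeval c g ^ (e - 1)} := by
            rw [hpowC]
            exact Ideal.mem_map_of_mem _ hx
          obtain ⟨y, hy⟩ := Ideal.mem_span_singleton'.mp h8
          obtain ⟨y, rfl⟩ := Ideal.Quotient.mk_surjective y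
          rw [hGc, ← map_pow, ← map_mul] at hy
          have h9 := Ideal.Quotient.eq.mp hy.symm
          obtain ⟨r, rfl⟩ := hb ω
          have h10 : x • r • D A B b = (x - y * aeval b G ^ (e - 1)) • r • D A B b +
              (y * r) • (aeval b G ^ (e - 1) • D A B b) := by
            rw [smul_smul, smul_smul, smul_smul, ← add_smul]
            congr 1
            ring
          rw [h10]
          exact Submodule.add_mem _ (Submodule.smul_mem_smul h9 Submodule.mem_top)
            (Submodule.smul_mem _ _ h5)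
        have h11 : maximalIdeal B ^ (e - 1) • (⊤ : Submodule B Ω[B⁄A]) = ⊥ :=
          Submodule.eq_bot_of_le_smul_of_le_jacobson_bot (maximalIdeal B) _
            (IsNoetherian.noetherian _) h7 (IsLocalRing.maximalIdeal_le_jacobson _)
        intro a ha
        rw [LinearMap.mem_ker, LinearMap.toSpanSingleton_apply, ← Submodule.mem_bot B, ← h11]
        exact Submodule.smul_mem_smul ha Submodule.mem_top
    have h1 : Module.length B Ω[B⁄A] = ((e - 1 : ℕ) : ℕ∞) := by
      rw [hlen, hker]
      exact IsDiscreteValuationRing.length_quotient_pow_maximalIdeal B (e - 1)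
    exact ⟨h1.ge, ⟨fun _ => htame, fun _ => h1⟩⟩
  · have hker : LinearMap.ker ℓ ≤ maximalIdeal B ^ e := by
      intro a ha
      have h1 := hann a ha
      have h2 : (e : C) * (aeval c g) ^ (e - 1) * aeval c (derivative g) = 0 := by
        rcases not_and_or.mp htame with h3 | h3
        · have h4 : derivative g = 0 := by
            by_contra h5
            have h6 : g.Separable := (separable_iff_derivative_ne_zero hg).mpr h5
            exact h3 (hsep.mpr ((hunit _).mpr (h6.aeval_derivative_ne_zero (minpoly.aeval _ _))))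
          rw [h4, map_zero, mul_zero]
        · have h4 : (e : C) = 0 := by
            rw [← map_natCast (algebraMap κ C), not_not.mp h3, map_zero]
          rw [h4, zero_mul, zero_mul]
      rw [h2, Ideal.span_singleton_zero, Ideal.mem_bot, Ideal.Quotient.eq_zero_iff_mem] at h1
      exact h1
    have h1 : (e : ℕ∞) ≤ Module.length B Ω[B⁄A] := by
      rw [hlen, ← IsDiscreteValuationRing.length_quotient_pow_maximalIdeal (R := B) e]
      exact Module.length_le_of_surjective (Submodule.factor hker) (Submodule.factor_surjective hker)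
    refine ⟨le_trans (by exact_mod_cast hkey.le) h1, ⟨fun h => ?_, fun h => absurd h htame⟩⟩
    rw [h] at h1
    exact absurd h1 (by exact_mod_cast hkey.not_ge)

end DVR


end Groth.Agent.Curves.K316.RamBound
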