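import Groth.Agent.CurvesB.Pairing
import Groth.Agent.CurvesB.OmegaInv
import Groth.Agent.CurvesB.GenStalk
import Groth.Agent.CurvesB.PairLemma
import Groth.Agent.CurvesB.SubPoint
import Groth.Agent.CurvesB.UnitCoh
import Groth.Agent.CycB.ModStalk
import Groth.Agent.Sga67.CohBasic
import Groth.Agent.Sga4h.X144Geo1
import Groth.Agent.Dcoh.StalkMod
import Groth.Prelude.Def_ProjUP

/-!
# The submodule of an invertible module generated by sections, on a regular curve

`exists_sub`: on an integral Noetherian scheme of dimension one with regular local rings, finitely many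
sections (not all zero) of an invertible module `L` generate an invertible submodule.
-/

set_option autoImplicit false
set_option linter.style.haveILetI false

universe u

open CategoryTheory CategoryTheory.Limits AlgebraicGeometry Opposite TopologicalSpace

namespace Groth.Agent.Curves.K316.SecImage

open CurvesB.Pairing CurvesB.GenStalk CycB.StalkExact

variable {X : Scheme.{u}}

attribute [local instance] Abelian.hasFiniteBiproducts

section Stalk

/-- The local rings of a regular curve are principal ideal rings. -/
theorem isPrincipalIdealRing_stalk [IsIntegral X] (hdim : topologicalKrullDim X ≤ 1)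
    (hreg : ∀ x : X, IsRegularLocalRing (X.presheaf.stalk x)) (x : X) :
    IsPrincipalIdealRing (X.presheaf.stalk x) := by
  haveI := hreg x
  by_cases hf : IsField (X.presheaf.stalk x)
  · letI := hf.toField
    infer_instance
  · haveI := Picfga.CurvePts.dimensionLEOne_stalk hdim x
    have h1 : ringKrullDim (X.presheaf.stalk x) = 1 := by
      refine Sga4h.X144Geo1.dim_eq_one ?_ fun h0 => hf ?_
      · exact_mod_cast (Ring.krullDimLE_iff (n := 1)).mp inferInstance
      · have h2 : Ring.KrullDimLE 0 (X.presheaf.stalk x) := (Ring.krullDimLE_iff (n := 0)).2 h0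
        exact Ring.isField_iff_maximal_bot.mpr
          (Ring.krullDimLE_zero_iff.mp h2 ⊥ Ideal.isPrime_bot)
    haveI := Sga4h.X144Geo1.isDiscreteValuationRing (X.presheaf.stalk x) h1
    infer_instance

end Stalk

section Image

variable {L : X.Modules} {n : ℕ} (s : Fin n → Γ(L, ⊤))

/-- The morphism `O^n ⟶ L` attached to `n` sections. -/
noncomputable def desc : (⨁ fun _ : Fin n => Coh.structureModule X) ⟶ L :=
  biproduct.desc fun i => secHom L (s i)

/-- The submodule generated by sections. -/
noncomputable def sub : X.Modules := Abelian.image (desc s)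

/-- The inclusion. -/
noncomputable def subι : sub s ⟶ L := Abelian.image.ι (desc s)

instance : Mono (subι s) := inferInstanceAs (Mono (Abelian.image.ι (desc s)))

/-- The surjection. -/
noncomputable def subπ : (⨁ fun _ : Fin n => Coh.structureModule X) ⟶ sub s :=
  Abelian.factorThruImage (desc s)

instance : Epi (subπ s) := inferInstanceAs (Epi (Abelian.factorThruImage (desc s)))

theorem subπ_subι : subπ s ≫ subι s = desc s := Abelian.image.fac _

/-- The generators. -/
noncomputable def gen (i : Fin n) : Γ(sub s, ⊤) :=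
  homSec (biproduct.ι (fun _ : Fin n => Coh.structureModule X) i ≫ subπ s)

theorem subι_gen (i : Fin n) : (subι s).app ⊤ (gen s i) = s i := by
  have h1 : homSec ((biproduct.ι (fun _ : Fin n => Coh.structureModule X) i ≫ subπ s) ≫ subι s) =
      (subι s).app ⊤ (gen s i) := rfl
  rw [← h1, Category.assoc, subπ_subι, desc, biproduct.ι_desc, homSec_secHom]

omit s in
theorem stalkLin_mem_span {F : X.Modules} (φ : Coh.structureModule X ⟶ F) (x : X)
    (z : (Coh.structureModule X).presheaf.stalk x) :
    stalkLin φ x z ∈ Submodule.span (X.presheaf.stalk x)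
      {F.presheaf.germ ⊤ x trivial (homSec φ)} := by
  obtain ⟨U, hxU, a, rfl⟩ := (Coh.structureModule X).presheaf.exists_germ_eq z
  rw [stalkLin_germ]
  have h1 := app_eq_smul φ U a
  have h2 : F.presheaf.germ U x hxU (φ.app U a) =
      X.presheaf.germ U x hxU a • F.presheaf.germ ⊤ x trivial (homSec φ) := by
    rw [h1, germ_smul, TopCat.Presheaf.germ_res_apply]
  rw [h2]
  exact Submodule.smul_mem _ _ (Submodule.mem_span_singleton_self _)

theorem generatedBy : ProjUP.GeneratedBy (sub s) (gen s) := by
  intro x
  rw [eq_top_iff]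
  intro z _
  obtain ⟨e, rfl⟩ := stalkLin_surjective (subπ s) x z
  have h1 : e = ∑ i, stalkLin (biproduct.ι (fun _ : Fin n => Coh.structureModule X) i) x
      (stalkLin (biproduct.π (fun _ : Fin n => Coh.structureModule X) i) x e) := by
    have h2 := congrArg (fun φ => stalkLin φ x e)
      (biproduct.total (f := fun _ : Fin n => Coh.structureModule X))
    simp only [stalkLin_id, LinearMap.id_apply, Dcoh.StalkMod.stalkLin_sum,
      LinearMap.sum_apply, stalkLin_comp, LinearMap.comp_apply] at h2
    exact h2.symm
  rw [h1, map_sum]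
  refine Submodule.sum_mem _ fun i _ => ?_
  generalize stalkLin (biproduct.π (fun _ : Fin n => Coh.structureModule X) i) x e = a
  rw [← LinearMap.comp_apply, ← stalkLin_comp]
  refine Submodule.span_mono ?_ (stalkLin_mem_span _ x a)
  rintro _ rfl
  exact ⟨i, rfl⟩

end Image

theorem free_of_injective {R M : Type u} [CommRing R] [IsDomain R] [IsPrincipalIdealRing R]
    [AddCommGroup M] [Module R M] (f : M →ₗ[R] R) (hf : Function.Injective f) [Nontrivial M] :
    Module.Free R M ∧ Module.finrank R M = 1 := by
  obtain ⟨a, ha⟩ := IsPrincipalIdealRing.principal (LinearMap.range f)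
  have ha0 : a ≠ 0 := by
    rintro rfl
    obtain ⟨m, hm⟩ := exists_ne (0 : M)
    have h1 : f m ∈ LinearMap.range f := ⟨m, rfl⟩
    rw [ha] at h1
    simp only [Submodule.span_zero_singleton, Submodule.mem_bot] at h1
    exact hm (hf (h1.trans (map_zero f).symm))
  let e : M ≃ₗ[R] Submodule.span R ({a} : Set R) :=
    (LinearEquiv.ofInjective f hf).trans (LinearEquiv.ofEq _ _ ha)
  let e2 : R ≃ₗ[R] Submodule.span R ({a} : Set R) := LinearEquiv.toSpanNonzeroSingleton R R a ha0
  let e3 : R ≃ₗ[R] M := e2.trans e.symm
  refine ⟨Module.Free.of_equiv e3, ?_⟩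
  rw [← e3.finrank_eq, Module.finrank_self]


theorem germ_gen_eq_zero [IsIntegral X] (F : X.Modules) (s : Γ(F, ⊤)) {x y : X} (h : y ⤳ x)
    (hs : F.presheaf.germ ⊤ x trivial s = 0) : F.presheaf.germ ⊤ y trivial s = 0 := by
  rw [← map_zero (F.presheaf.germ ⊤ x trivial).hom] at hs
  obtain ⟨W, hxW, i1, i2, h1⟩ := F.presheaf.germ_eq x (U := ⊤) (V := ⊤) trivial trivial s 0 hs
  rw [map_zero] at h1
  have hyW : y ∈ W := h.mem_open W.2 hxW
  rw [← TopCat.Presheaf.germ_res_apply F.presheaf i1 y hyW s, h1, map_zero]

theorem isInvertible_sub [IsIntegral X] [IsLocallyNoetherian X] (hdim : topologicalKrullDim X ≤ 1)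
    (hreg : ∀ x : X, IsRegularLocalRing (X.presheaf.stalk x)) {L : X.Modules}
    (hL : PicF.IsInvertible L) {n : ℕ} (s : Fin n → Γ(L, ⊤)) (i : Fin n) (hi : s i ≠ 0) :
    PicF.IsInvertible (sub s) := by
  have hcoh : Coh.IsCoh (sub s) :=
    Sga67.CohBasic.isCoh_image (desc s)
      (CurvesB.PairLemma.isCoh_biproduct _ fun _ => CurvesB.UnitCoh.isCoh_structureModule X)
      (CurvesB.SubPoint.isCoh_of_isInvertible hL).1
  have key : ∀ x : X, Module.Free (X.presheaf.stalk x) ((sub s).presheaf.stalk x) ∧
      Module.finrank (X.presheaf.stalk x) ((sub s).presheaf.stalk x) = 1 := by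
    intro x
    haveI := isPrincipalIdealRing_stalk hdim hreg x
    obtain ⟨t, ht⟩ := CycB.ModStalk.exists_isGen hL x
    let e := (LinearEquiv.ofBijective (LinearMap.toSpanSingleton _ _ t) ht).symm
    haveI : Nontrivial ((sub s).presheaf.stalk x) := by
      refine ⟨⟨(sub s).presheaf.germ ⊤ x trivial (gen s i), 0, fun h0 => hi ?_⟩⟩
      have h1 := congrArg (stalkLin (subι s) x) h0
      rw [stalkLin_germ, subι_gen, map_zero] at h1
      refine torsionFree_of_isInvertible hL ⊤ (s i) fun ξ _ hξ => ?_
      have h2 : ξ = genericPoint X := (hξ _ (genericPoint_specializes ξ)).symm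
      subst h2
      exact germ_gen_eq_zero L (s i) (genericPoint_specializes x) h1
    exact free_of_injective (e.toLinearMap ∘ₗ stalkLin (subι s) x)
      (e.injective.comp (stalkLin_injective (subι s) x))
  exact CurvesB.OmegaInv.isInvertible_of_stalks hcoh (fun x => (key x).1) (fun x => (key x).2)

end Groth.Agent.Curves.K316.SecImage
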